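import Groth.Agent.S2536
import Groth.Agent.Ega1.ReducedSub
import Mathlib.AlgebraicGeometry.Geometrically.Reduced
import Mathlib.AlgebraicGeometry.IdealSheaf.Functorial

/-!
# Base change along a separable extension of the base field
-/

set_option autoImplicit false

open CategoryTheory CategoryTheory.Limits AlgebraicGeometry TensorProduct

universe u

namespace K107.Sep

/-- A geometrically reduced extension in the sense of schemes is geometrically reduced in the sense
of algebras. -/
theorem isGeometricallyReduced_of_specMap {k A : Type u} [Field k] [CommRing A] [Algebra k A]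
    (h : GeometricallyReduced (Spec.map (CommRingCat.ofHom (algebraMap k A)))) :
    Algebra.IsGeometricallyReduced k A := by
  rw [Algebra.isGeometricallyReduced_field_iff]
  have h1 : IsReduced (pullback (Spec.map (CommRingCat.ofHom (algebraMap k A)))
      (Spec.map (CommRingCat.ofHom (algebraMap k (AlgebraicClosure k))))) :=
    GeometricallyReduced.geometrically_isReduced _ _ _ (.of_hasPullback _ _)
  have h2 : IsReduced (Spec (CommRingCat.of (A ⊗[k] (AlgebraicClosure k)))) :=
    isReduced_of_isOpenImmersion (pullbackSpecIso k A (AlgebraicClosure k)).inv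
  have h3 : _root_.IsReduced (A ⊗[k] (AlgebraicClosure k)) :=
    (affine_isReduced_iff (CommRingCat.of (A ⊗[k] (AlgebraicClosure k)))).mp h2
  exact isReduced_of_injective (Algebra.TensorProduct.comm k (AlgebraicClosure k) A)
    (Algebra.TensorProduct.comm k (AlgebraicClosure k) A).injective

theorem isReduced_pullback {k K : Type u} [Field k] [Field K] [Algebra k K]
    [h : GeometricallyReduced (Spec.map (CommRingCat.ofHom (algebraMap k K)))]
    {X : Scheme.{u}} [IsReduced X] (f : X ⟶ Spec (CommRingCat.of k)) :
    IsReduced (pullback f (Spec.map (CommRingCat.ofHom (algebraMap k K)))) := by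
  have := isGeometricallyReduced_of_specMap h
  exact Groth.Agent.S2536.result (k' := K) f

theorem support_vanishingIdeal {X : Scheme.{u}} (T : TopologicalSpace.Closeds X) :
    (Scheme.IdealSheafData.vanishingIdeal T).support = T :=
  SetLike.coe_injective (Scheme.IdealSheafData.coe_support_vanishingIdeal T)

/-- An ideal sheaf with reduced subscheme is the vanishing ideal of its support. -/
theorem eq_vanishingIdeal {X : Scheme.{u}} (I : X.IdealSheafData) [IsReduced I.subscheme] :
    I = Scheme.IdealSheafData.vanishingIdeal I.support := by
  have h1 := Scheme.IdealSheafData.map_vanishingIdeal I.subschemeι ⊤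
  rw [Scheme.IdealSheafData.vanishingIdeal_top, Scheme.nilradical_eq_bot,
    Scheme.IdealSheafData.map_bot, Scheme.IdealSheafData.ker_subschemeι] at h1
  rw [h1]
  have hs : (Scheme.IdealSheafData.vanishingIdeal (TopologicalSpace.Closeds.closure
      (I.subschemeι '' ↑(⊤ : TopologicalSpace.Closeds I.subscheme)))).support =
      TopologicalSpace.Closeds.closure
      (I.subschemeι '' ↑(⊤ : TopologicalSpace.Closeds I.subscheme)) :=
    support_vanishingIdeal _
  rw [hs]

/-- The inverse image of a vanishing ideal sheaf under a separable extension of the base field. -/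
theorem comap_vanishingIdeal {k K : Type u} [Field k] [Field K] [Algebra k K]
    [h : GeometricallyReduced (Spec.map (CommRingCat.ofHom (algebraMap k K)))]
    {X : Scheme.{u}} (f : X ⟶ Spec (CommRingCat.of k)) (T : TopologicalSpace.Closeds X) :
    (Scheme.IdealSheafData.vanishingIdeal T).comap
      (pullback.fst f (Spec.map (CommRingCat.ofHom (algebraMap k K)))) =
    Scheme.IdealSheafData.vanishingIdeal (T.preimage
      (pullback.fst f (Spec.map (CommRingCat.ofHom (algebraMap k K)))).continuous) := by
  set p := pullback.fst f (Spec.map (CommRingCat.ofHom (algebraMap k K))) with hp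
  set I := Scheme.IdealSheafData.vanishingIdeal T with hI
  have hred : IsReduced I.subscheme :=
    Groth.Agent.Ega1.ReducedSub.isReduced_subscheme_vanishingIdeal T
  have h1 : IsReduced (pullback (I.subschemeι ≫ f)
      (Spec.map (CommRingCat.ofHom (algebraMap k K)))) := isReduced_pullback _
  let e := (I.comapIso p) ≪≫ pullbackSymmetry _ _ ≪≫
    pullbackRightPullbackFstIso f (Spec.map (CommRingCat.ofHom (algebraMap k K))) I.subschemeι
  have h2 : IsReduced (I.comap p).subscheme := isReduced_of_isOpenImmersion e.hom
  rw [eq_vanishingIdeal (I.comap p), Scheme.IdealSheafData.support_comap,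
    hI, support_vanishingIdeal]

end K107.Sep
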