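import Groth.Agent.FBase.K107.ModBC2
import Groth.Agent.S1391
import Groth.Agent.FormalB.PullCoh

/-!
# External tensor products of geometrically reduced modules
-/

set_option autoImplicit false
universe u
open CategoryTheory CategoryTheory.Limits AlgebraicGeometry TensorProduct

namespace K107.ModExt

open Groth.Agent Groth.Agent.Fdesc Groth.Agent.Fdesc.AssFlat Groth.Agent.Fdesc.PullbackStalk
  K107.ModBC

/-- everything is flat over a field -/
theorem flat_over_field {K : Type u} [Field K] {Y : Scheme.{u}} (q : Y ⟶ Spec (CommRingCat.of K))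
    (M : Y.Modules) : FlatMod.IsFlatOver q M := by
  intro x
  unfold FlatMod.IsFlatOverAt
  let _ := FlatMod.moduleStalkOver q M x
  let _ : Algebra K ((Spec (CommRingCat.of K)).presheaf.stalk (q.base x)) :=
    StructureSheaf.stalkAlgebra (R := K) (q.base x)
  have : IsLocalization.AtPrime ((Spec (CommRingCat.of K)).presheaf.stalk (q.base x)) (q.base x).asIdeal :=
    StructureSheaf.IsLocalization.to_stalk K (q.base x)
  let _ : Module K (M.presheaf.stalk x) :=
    Module.compHom _ (algebraMap K ((Spec (CommRingCat.of K)).presheaf.stalk (q.base x)))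
  have : IsScalarTower K ((Spec (CommRingCat.of K)).presheaf.stalk (q.base x)) (M.presheaf.stalk x) :=
    IsScalarTower.of_algebraMap_smul fun _ _ => rfl
  rw [Module.flat_iff_of_isLocalization (R := K) ((Spec (CommRingCat.of K)).presheaf.stalk (q.base x))
    (q.base x).asIdeal.primeCompl]
  infer_instance

theorem isReducedMod_structure_of_field (W : Scheme.{u}) (T : Type u) [Field T]
    (e : W ≅ Spec (CommRingCat.of T)) : AssSch.IsReducedMod (Coh.structureModule W) := by
  refine (K107.ModStk.isReducedMod_structure_iff W T e ?_).2 inferInstance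
  intro p hp
  have hp' := hp.isPrime
  rw [IsDomain.minimalPrimes_eq_singleton_bot]
  exact (Ideal.eq_bot_or_top p).resolve_right hp'.ne_top

/-- being reduced is invariant under isomorphisms of schemes -/
theorem isReducedMod_pullback_iso {W W' : Scheme.{u}} [IsLocallyNoetherian W]
    [IsLocallyNoetherian W'] (e : W ⟶ W') [IsIso e] (M : W'.Modules) (hM : Coh.IsCoh M)
    (h : AssSch.IsReducedMod M) : AssSch.IsReducedMod ((Scheme.Modules.pullback e).obj M) := by
  rw [← K107.ModStk.isReducedMod_tensor_struct_iff,
    S2546.result e M hM (Coh.structureModule _) (StructMod.isCoh_structureModule _)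
      (S2513.isFlatOver_structureModule _)]
  rintro y ⟨hy, -⟩
  refine ⟨fun y' hy' hs => (h.1 y hy y' hy' hs).symm, h.2 y hy, ?_⟩
  rw [K107.ModStk.isReducedMod_pullback_struct_iff]
  have h1 : IsIso (pullback.snd e (W'.fromSpecResidueField y)) := inferInstance
  exact isReducedMod_structure_of_field (e.fiber y) (W'.residueField y)
    (@asIso _ _ _ _ (pullback.snd e (W'.fromSpecResidueField y)) h1)

/-- stalks of isomorphic modules -/
noncomputable def stalkEquivOfIso {X : Scheme.{u}} {M N : X.Modules} (e : M ≅ N) (x : X) :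
    M.presheaf.stalk x ≃ₗ[X.presheaf.stalk x] N.presheaf.stalk x :=
  ((Dcoh.Stalk.stalkF x).mapIso e).toLinearEquiv

theorem isReducedMod_congr {X : Scheme.{u}} {M N : X.Modules} (e : M ≅ N) :
    AssSch.IsReducedMod M ↔ AssSch.IsReducedMod N :=
  K107.ModStk.isReducedMod_congr_stalk fun x => ⟨stalkEquivOfIso e x⟩

variable {k : Type u} [Field k] {X Y : Scheme.{u}} [IsLocallyNoetherian X]
  [IsLocallyNoetherian Y] (f : X ⟶ Spec (CommRingCat.of k)) (g : Y ⟶ Spec (CommRingCat.of k))
  [IsLocallyNoetherian (pullback f g)]

/-- The fibres of `X × Y → Y` are the base changes of `X` to the residue fields of `Y`. -/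
noncomputable def fibIso (y : Y) : letI := resAlg g y
    (pullback.snd f g).fiber y ≅ FBase.bc f (Y.residueField y) :=
  letI := resAlg g y
  pullbackLeftPullbackSndIso f g (Y.fromSpecResidueField y) ≪≫
    pullback.congrHom rfl (specMap_resAlg g y).symm

omit [IsLocallyNoetherian X] [IsLocallyNoetherian Y] [IsLocallyNoetherian (pullback f g)] in
theorem fibIso_hom_bcπ (y : Y) : letI := resAlg g y
    (fibIso f g y).hom ≫ FBase.bcπ f (Y.residueField y) =
      (pullback.snd f g).fiberι y ≫ pullback.fst f g := by
  let _ := resAlg g y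
  have h1 : (pullback.congrHom rfl (specMap_resAlg g y).symm).hom ≫ FBase.bcπ f (Y.residueField y) =
      pullback.fst f (Y.fromSpecResidueField y ≫ g) := by
    rw [pullback.congrHom_hom]
    exact (pullback.lift_fst _ _ _).trans (Category.comp_id _)
  have h2 := pullbackLeftPullbackSndIso_hom_fst f g (Y.fromSpecResidueField y)
  rw [← h1] at h2
  rw [fibIso, Iso.trans_hom, Category.assoc]
  exact h2

theorem isReducedMod_fiber (F : X.Modules) (hF : Coh.IsCoh F)
    (hFgr : ∀ (k' : Type u) [Field k'] [Algebra k k'] [FiniteDimensional k k'] [IsPurelyInseparable k k'],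
      AssSch.IsReducedMod ((Scheme.Modules.pullback (FBase.bcπ f k')).obj F)) (y : Y) :
    AssSch.IsReducedMod ((Scheme.Modules.pullback ((pullback.snd f g).fiberι y)).obj
      ((Scheme.Modules.pullback (pullback.fst f g)).obj F)) := by
  let _ := resAlg g y
  have hN : IsLocallyNoetherian ((pullback.snd f g).fiber y) :=
    K107.FibNoeth.isLocallyNoetherian_fiber (pullback.snd f g) y
  have hN2 : IsLocallyNoetherian (FBase.bc f (Y.residueField y)) :=
    isLocallyNoetherian_of_isOpenImmersion (fibIso f g y).inv
  have h1 := K107.ModBC2.isReducedMod_bc_of_purelyInseparable f F hF hFgr (Y.residueField y)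
  have h2 := isReducedMod_pullback_iso (fibIso f g y).hom _
    (FormalB.PullCoh.isCoh_pullback _ hF) h1
  refine (isReducedMod_congr ?_).1 h2
  exact (Scheme.Modules.pullbackComp _ _).app F ≪≫
    (Scheme.Modules.pullbackCongr (fibIso_hom_bcπ f g y)).app F ≪≫
    ((Scheme.Modules.pullbackComp _ _).app F).symm

theorem main (F : X.Modules) (hF : Coh.IsCoh F) (G : Y.Modules) (hG : Coh.IsCoh G)
    (hFgr : ∀ (k' : Type u) [Field k'] [Algebra k k'] [FiniteDimensional k k'] [IsPurelyInseparable k k'],
      AssSch.IsReducedMod ((Scheme.Modules.pullback (FBase.bcπ f k')).obj F))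
    (hGr : AssSch.IsReducedMod G) :
    AssSch.IsReducedMod (CohB1.tensorMod ((Scheme.Modules.pullback (pullback.fst f g)).obj F)
      ((Scheme.Modules.pullback (pullback.snd f g)).obj G)) := by
  have h0 : AssSch.IsReducedMod (CohB1.tensorMod
      ((Scheme.Modules.pullback (pullback.snd f g)).obj G)
      ((Scheme.Modules.pullback (pullback.fst f g)).obj F)) := by
    rw [S2546.result (pullback.snd f g) G hG _ (FormalB.PullCoh.isCoh_pullback _ hF) ?_]
    · rintro y ⟨hy, -⟩
      exact ⟨fun y' hy' hs => (hGr.1 y hy y' hy' hs).symm, hGr.2 y hy,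
        isReducedMod_fiber f g F hF hFgr y⟩
    · intro z
      exact S1391.result f (pullback.snd f g) (pullback.fst f g) g
        (IsPullback.of_hasPullback f g) F hF.1 z (flat_over_field f F _)
  refine (K107.ModStk.isReducedMod_congr_stalk (fun x => ⟨?_⟩)).1 h0
  exact (tensorModStalk _ _ x).trans ((TensorProduct.comm _ _ _).trans
    (tensorModStalk _ _ x).symm)

end K107.ModExt
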