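import Mathlib.AlgebraicGeometry.ResidueField
import Mathlib.AlgebraicGeometry.Pullbacks
import Mathlib.AlgebraicGeometry.PullbackCarrier
import Mathlib.AlgebraicGeometry.Morphisms.UnderlyingMap
import Mathlib.FieldTheory.IsAlgClosed.AlgebraicClosure

/-!
# Properties of schemes over fields tested on geometric points
-/

set_option autoImplicit false
universe u
open CategoryTheory CategoryTheory.Limits AlgebraicGeometry Opposite

namespace K107.GeomPt

variable (P : ∀ (k : Type u) [Field k] (Z : Scheme.{u}), (Z ⟶ Spec (CommRingCat.of k)) → Prop)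

/-- invariance under isomorphisms, iff form, for cartesian squares -/
theorem of_isPullback
    (hiso : ∀ (k : Type u) [Field k] (Z Z' : Scheme.{u}) (e : Z ≅ Z')
      (g : Z' ⟶ Spec (CommRingCat.of k)), P k Z' g → P k Z (e.hom ≫ g))
    {k : Type u} [Field k] {X T Z Z' : Scheme.{u}} {f : X ⟶ T}
    {σ : Spec (CommRingCat.of k) ⟶ T} {a : Z ⟶ X} {b : Z ⟶ Spec (CommRingCat.of k)}
    {a' : Z' ⟶ X} {b' : Z' ⟶ Spec (CommRingCat.of k)}
    (h : IsPullback a b f σ) (h' : IsPullback a' b' f σ) (H : P k Z b) : P k Z' b' := by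
  have := hiso k Z' Z (h'.isoIsPullback _ _ h) b H
  rwa [IsPullback.isoIsPullback_hom_snd] at this

theorem comp_of
    (hiso : ∀ (k : Type u) [Field k] (Z Z' : Scheme.{u}) (e : Z ≅ Z')
      (g : Z' ⟶ Spec (CommRingCat.of k)), P k Z' g → P k Z (e.hom ≫ g))
    {k K : Type u} [Field k] [Field K] (i : k →+* K) {X T : Scheme.{u}} (f : X ⟶ T)
    (σ : Spec (CommRingCat.of k) ⟶ T) (τ : Spec (CommRingCat.of K) ⟶ T)
    (hτ : Spec.map (CommRingCat.ofHom i) ≫ σ = τ)
    (H : P K (pullback (pullback.snd f σ) (Spec.map (CommRingCat.ofHom i)))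
      (pullback.snd (pullback.snd f σ) (Spec.map (CommRingCat.ofHom i)))) :
    P K (pullback f τ) (pullback.snd f τ) := by
  subst hτ
  have h1 := (IsPullback.of_hasPullback (pullback.snd f σ)
    (Spec.map (CommRingCat.ofHom i))).paste_horiz (IsPullback.of_hasPullback f σ)
  exact of_isPullback P hiso h1 (IsPullback.of_hasPullback _ _) H

theorem of_comp
    (hiso : ∀ (k : Type u) [Field k] (Z Z' : Scheme.{u}) (e : Z ≅ Z')
      (g : Z' ⟶ Spec (CommRingCat.of k)), P k Z' g → P k Z (e.hom ≫ g))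
    {k K : Type u} [Field k] [Field K] (i : k →+* K) {X T : Scheme.{u}} (f : X ⟶ T)
    (σ : Spec (CommRingCat.of k) ⟶ T) (τ : Spec (CommRingCat.of K) ⟶ T)
    (hτ : Spec.map (CommRingCat.ofHom i) ≫ σ = τ)
    (H : P K (pullback f τ) (pullback.snd f τ)) :
    P K (pullback (pullback.snd f σ) (Spec.map (CommRingCat.ofHom i)))
      (pullback.snd (pullback.snd f σ) (Spec.map (CommRingCat.ofHom i))) := by
  subst hτ
  have h1 := (IsPullback.of_hasPullback (pullback.snd f σ)
    (Spec.map (CommRingCat.ofHom i))).paste_horiz (IsPullback.of_hasPullback f σ)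
  exact of_isPullback P hiso (IsPullback.of_hasPullback _ _) h1 H

/-- a morphism from the spectrum of an algebraically closed field factors through the algebraic
closure of the residue field of its image -/
theorem exists_factor {T : Scheme.{u}} {k : Type u} [Field k] [IsAlgClosed k]
    (σ : Spec (CommRingCat.of k) ⟶ T) :
    ∃ (t : T) (i : AlgebraicClosure ↥(T.residueField t) →+* k),
      Spec.map (CommRingCat.ofHom i) ≫
        (Spec.map (CommRingCat.ofHom (algebraMap ↥(T.residueField t)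
          (AlgebraicClosure ↥(T.residueField t)))) ≫ T.fromSpecResidueField t) = σ := by
  obtain ⟨⟨t, φ⟩, rfl⟩ := (Scheme.SpecToEquivOfField _ _).symm.surjective σ
  let _ : Algebra ↥(T.residueField t) k := φ.hom.toAlgebra
  let j : AlgebraicClosure ↥(T.residueField t) →ₐ[↥(T.residueField t)] k := IsAlgClosed.lift
  refine ⟨t, j.toRingHom, ?_⟩
  rw [← Category.assoc, ← Spec.map_comp]
  have : CommRingCat.ofHom (algebraMap ↥(T.residueField t)
      (AlgebraicClosure ↥(T.residueField t))) ≫ CommRingCat.ofHom j.toRingHom = φ := by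
    ext x
    exact j.commutes x
  rw [this]
  rfl

/-- a geometric point lifts along a surjection after a field extension -/
theorem exists_lift {T T' : Scheme.{u}} (h : T' ⟶ T) [Surjective h] {k : Type u} [Field k]
    (σ : Spec (CommRingCat.of k) ⟶ T) :
    ∃ (K : Type u) (_ : Field K) (_ : IsAlgClosed K) (i : k →+* K)
      (τ : Spec (CommRingCat.of K) ⟶ T'), Spec.map (CommRingCat.ofHom i) ≫ σ = τ ≫ h := by
  have hs : Surjective (pullback.fst σ h) := inferInstance
  obtain ⟨z, -⟩ := (pullback.fst σ h).surjective (default : Spec (CommRingCat.of k))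
  let K := AlgebraicClosure ((pullback σ h).residueField z)
  let ρ : Spec (CommRingCat.of K) ⟶ pullback σ h :=
    Spec.map (CommRingCat.ofHom (algebraMap ((pullback σ h).residueField z) K)) ≫
      (pullback σ h).fromSpecResidueField z
  obtain ⟨i, hi⟩ := Spec.map_surjective (ρ ≫ pullback.fst σ h)
  refine ⟨K, inferInstance, inferInstance, i.hom, ρ ≫ pullback.snd σ h, ?_⟩
  have : Spec.map (CommRingCat.ofHom i.hom) = ρ ≫ pullback.fst σ h := hi
  rw [this, Category.assoc, pullback.condition]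
  exact (Category.assoc _ _ _).symm

/-- The base change of a scheme over a field to a larger field surjects onto it. -/
theorem exists_surjective' {X T T' : Scheme.{u}} {f : X ⟶ T} {h : T' ⟶ T} {k K : Type u} [Field k]
    [Field K] {i : k →+* K} {σ : Spec (CommRingCat.of k) ⟶ T} {τ : Spec (CommRingCat.of K) ⟶ T'}
    (hτ : τ ≫ h = Spec.map (CommRingCat.ofHom i) ≫ σ) {W Z : Scheme.{u}} {a : W ⟶ X}
    {b : W ⟶ Spec (CommRingCat.of K)} (hW : IsPullback a b f (τ ≫ h)) {c : Z ⟶ X}
    {d : Z ⟶ Spec (CommRingCat.of k)} (hZ : IsPullback c d f σ) :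
    ∃ q : W ⟶ Z, Surjective q := by
  have hsub : Subsingleton (Spec (CommRingCat.of k)) :=
    inferInstanceAs (Subsingleton (PrimeSpectrum k))
  have hs : Surjective (Spec.map (CommRingCat.ofHom i)) :=
    ⟨fun y => ⟨(default : PrimeSpectrum K), Subsingleton.elim _ _⟩⟩
  have hw : a ≫ f = (b ≫ Spec.map (CommRingCat.ofHom i)) ≫ σ := by
    rw [Category.assoc, ← hτ, hW.w]
  let q : W ⟶ Z := hZ.lift a (b ≫ Spec.map (CommRingCat.ofHom i)) hw
  have hq : IsPullback q b d (Spec.map (CommRingCat.ofHom i)) := by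
    refine IsPullback.of_right (h₁₂ := c) (h₂₂ := σ) (v₁₃ := f) ?_ (hZ.lift_snd _ _ _) hZ
    rw [hZ.lift_fst, ← hτ]
    exact hW
  exact ⟨q, MorphismProperty.of_isPullback hq.flip hs⟩

theorem exists_surjective {X T T' : Scheme.{u}} {f : X ⟶ T} {h : T' ⟶ T} {k K : Type u} [Field k]
    [Field K] {i : k →+* K} {σ : Spec (CommRingCat.of k) ⟶ T} {τ : Spec (CommRingCat.of K) ⟶ T'}
    (hτ : τ ≫ h = Spec.map (CommRingCat.ofHom i) ≫ σ) {W : Scheme.{u}} {a : W ⟶ X}
    {b : W ⟶ Spec (CommRingCat.of K)} (hW : IsPullback a b f (τ ≫ h)) :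
    ∃ q : W ⟶ pullback f σ, Surjective q :=
  exists_surjective' hτ hW (IsPullback.of_hasPullback f σ)

end K107.GeomPt
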