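import Groth.Agent.Vancyc.H878.RelOmega
import Groth.Agent.Vancyc.H878.OmegaRank
import Groth.Agent.Krr.H482.PullFinal
import Groth.Agent.Sga67.TensorOps
import Groth.Agent.Grpsch.PicGrp
import Groth.Agent.CurvesB.OmegaInv
import Groth.Agent.Dix.IdealModCartier
import Groth.Agent.Fga.PicMon
import Groth.Agent.Fdesc.AmpleDescent
import Groth.Agent.FBase.K106.Dim
import Groth.Agent.FBase.K107.GeomPt
import Groth.Agent.CohqB.AmpGeneric
import Groth.Agent.Ega3B.PullTensor
import Groth.Agent.Sga67.LocBasisOps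
import Groth.Prelude.Def_Canon

/-!
# Descent of (anti)canonical ampleness along extensions of the base field
-/

set_option autoImplicit false
universe u
open CategoryTheory CategoryTheory.Limits AlgebraicGeometry Opposite TensorProduct

namespace K107.DelPezzo

open Groth.Agent Groth.Agent.Fdesc.PullbackStalk

theorem isInvertible_of_iso {X : Scheme.{u}} {L L' : X.Modules} (e : L ≅ L')
    (h : PicF.IsInvertible L) : PicF.IsInvertible L' := fun x => by
  obtain ⟨U, hx, ⟨e'⟩⟩ := h x
  exact ⟨U, hx, ⟨(Scheme.Modules.restrictFunctor U.ι).mapIso e.symm ≪≫ e'⟩⟩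

/-- Invertibility descends along surjections for finite locally free modules. -/
theorem isInvertible_of_pullback {Z W : Scheme.{u}} (q : W ⟶ Z) [Surjective q] {M : Z.Modules}
    (hM : FlatMod.IsFinLocFree M) (h : PicF.IsInvertible ((Scheme.Modules.pullback q).obj M)) :
    PicF.IsInvertible M := by
  rw [← Ega2.QCohLocal.isFinLocFreeOfRank_one_iff] at h ⊢
  intro x
  obtain ⟨V, n, hx, ⟨e⟩⟩ := hM x
  obtain ⟨w, rfl⟩ := q.surjective x
  obtain ⟨b⟩ := CurvesB.OmegaInv.nonempty_basis_stalk e (q w) hx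
  obtain ⟨V', hx', ⟨e'⟩⟩ := h w
  obtain ⟨b'⟩ := CurvesB.OmegaInv.nonempty_basis_stalk e' w hx'
  let _ := stalkAlg q w
  have h1 : Module.finrank (W.presheaf.stalk w)
      (((Scheme.Modules.pullback q).obj M).presheaf.stalk w) = 1 := by
    rw [Module.finrank_eq_card_basis b', Fintype.card_fin]
  have h2 := (stalkPullbackEquiv q M w).finrank_eq
  rw [h1] at h2
  have hfree : Module.Free (Z.presheaf.stalk (q w)) (M.presheaf.stalk (q w)) :=
    Module.Free.of_basis b
  have h3 : Module.finrank (W.presheaf.stalk w)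
      (W.presheaf.stalk w ⊗[Z.presheaf.stalk (q.base w)] M.presheaf.stalk (q.base w)) =
      Module.finrank (Z.presheaf.stalk (q.base w)) (M.presheaf.stalk (q.base w)) :=
    Module.finrank_baseChange
  rw [h2] at h3
  have h4 : Module.finrank (Z.presheaf.stalk (q w)) (M.presheaf.stalk (q w)) = n := by
    rw [Module.finrank_eq_card_basis b, Fintype.card_fin]
  obtain rfl : 1 = n := h3.trans h4
  exact ⟨V, hx, ⟨e⟩⟩

open Groth.Agent.Fga.PicMon in
theorem core {k K : Type u} [Field k] [Field K] (i : k →+* K) {Z W : Scheme.{u}} {q : W ⟶ Z}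
    {b' : W ⟶ Spec (CommRingCat.of K)} {b : Z ⟶ Spec (CommRingCat.of k)}
    (H : IsPullback q b' b (Spec.map (CommRingCat.ofHom i))) [IsProper b] [Smooth b] (n : ℕ)
    {ω' D' : W.Modules} (h1 : Canon.IsTopDiff b' n ω') (h2 : ClSub.IsInverseOf D' ω')
    (h3 : CohB1.IsAmple D') :
    ∃ ω D : Z.Modules, Canon.IsTopDiff b n ω ∧ ClSub.IsInverseOf D ω ∧ CohB1.IsAmple D := by
  have hsub : Subsingleton (Spec (CommRingCat.of k)) :=
    inferInstanceAs (Subsingleton (PrimeSpectrum k))
  have hs : Surjective (Spec.map (CommRingCat.ofHom i)) :=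
    ⟨fun y => ⟨(default : PrimeSpectrum K), Subsingleton.elim _ _⟩⟩
  have hfl : Flat (Spec.map (CommRingCat.ofHom i)) := by
    let _ := i.toAlgebra
    rw [Flat.SpecMap_iff]
    change (algebraMap k K).Flat
    rw [RingHom.flat_algebraMap_iff]
    infer_instance
  have hq : Surjective q := MorphismProperty.of_isPullback H.flip hs
  have hE : FlatMod.IsFinLocFree (Omega.sheaf b) := Vancyc.H878.OmegaRank.isFinLocFree_omega b
  obtain ⟨ω, hω⟩ := Krr.H482.PullFinal.exists_isExtPow' Z n _ hE
  have hω' := Krr.H482.PullFinal.isExtPow_pullback q hE hω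
  obtain ⟨e2⟩ := Sga67.TensorOps.nonempty_iso_of_isExtPow (Vancyc.H878.RelOmega.omegaBC H) hω' h1
  have hinv := Dix.IdealModCartier.isInvertible_of_isInverseOf h2
  have hinv' : PicF.IsInvertible ((Scheme.Modules.pullback q).obj ω) :=
    isInvertible_of_iso e2.symm hinv.2
  have hωi : PicF.IsInvertible ω :=
    isInvertible_of_pullback q (Sga67.LocBasis.isFinLocFree_of_isExtPow hE hω) hinv'
  obtain ⟨D, hDi, ⟨e3⟩⟩ := Grpsch.PicGrp.exists_inverse hωi
  have e4 : mc ω * mc D = 1 := by
    rw [← mc_tensor, ← mc_one]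
    exact (mc_eq_iff _ _).2 ⟨e3⟩
  refine ⟨ω, D, hω, ?_, ?_⟩
  · refine (mc_eq_iff _ _).1 ?_
    rw [mc_tensor, mc_one, mul_comm]
    exact e4
  · refine Fdesc.AmpleDescent.isAmple_of_isPullback b (Spec.map (CommRingCat.ofHom i)) q b' H D hDi
      ?_
    obtain ⟨e5⟩ := Dix.IdealModCartier.pullback_tensorMod q hωi hDi
    obtain ⟨e6⟩ := Ega3B.PullTensor.nonempty_pullUnitIso q
    have e7 : mc ((Scheme.Modules.pullback q).obj ω) * mc ((Scheme.Modules.pullback q).obj D) = 1 := by
      rw [← mc_tensor, ← mc_one]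
      exact (mc_eq_iff _ _).2 ⟨e5.symm ≪≫ (Scheme.Modules.pullback q).mapIso e3 ≪≫ e6⟩
    have e8 : mc D' * mc ω' = 1 := by
      rw [← mc_tensor, ← mc_one]
      exact (mc_eq_iff _ _).2 h2
    have e9 : mc ω' = mc ((Scheme.Modules.pullback q).obj ω) := (mc_eq_iff _ _).2 ⟨e2.symm⟩
    have e10 : mc D' = mc ((Scheme.Modules.pullback q).obj D) := by
      calc mc D' = mc D' * (mc ω' * mc ((Scheme.Modules.pullback q).obj D)) := by
            rw [e9, e7, mul_one]
        _ = (mc D' * mc ω') * mc ((Scheme.Modules.pullback q).obj D) := (mul_assoc _ _ _).symm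
        _ = _ := by rw [e8, one_mul]
    obtain ⟨e11⟩ := (mc_eq_iff _ _).1 e10
    exact CohqB.AmpCocycle.isAmple_of_iso e11 h3

/-- Integrality descends along flat surjections. -/
theorem isIntegral_of_flat_surjective {Z W : Scheme.{u}} (q : W ⟶ Z) [Surjective q] [Flat q]
    [IsIntegral W] : IsIntegral Z := by
  have hr : ∀ x : Z, _root_.IsReduced (Z.presheaf.stalk x) := by
    intro x
    obtain ⟨z, rfl⟩ := q.surjective x
    have hinj : Function.Injective (q.stalkMap z).hom := by
      algebraize [(q.stalkMap z).hom]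
      have : Module.FaithfullyFlat (Z.presheaf.stalk (q z)) (W.presheaf.stalk z) :=
        @Module.FaithfullyFlat.of_flat_of_isLocalHom _ _ _ _ _ _ _
          (Flat.stalkMap q z) (q.toLRSHom.prop z)
      exact ‹RingHom.FaithfullyFlat _›.injective
    exact isReduced_of_injective _ hinj
  have h1 : IsReduced Z := isReduced_of_isReduced_stalk Z
  have h2 : IrreducibleSpace Z :=
    q.surjective.irreducibleSpace q.continuous
  exact isIntegral_of_irreducibleSpace_of_isReduced Z

theorem fibre {k K : Type u} [Field k] [Field K] (i : k →+* K) {Z W : Scheme.{u}} {q : W ⟶ Z}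
    {b' : W ⟶ Spec (CommRingCat.of K)} {b : Z ⟶ Spec (CommRingCat.of k)}
    (H : IsPullback q b' b (Spec.map (CommRingCat.ofHom i))) [IsProper b]
    (h1 : IsIntegral W) {d : WithBot ℕ∞} (h2 : topologicalKrullDim ↥W = d) :
    IsIntegral Z ∧ topologicalKrullDim ↥Z = d := by
  have hsub : Subsingleton (Spec (CommRingCat.of k)) :=
    inferInstanceAs (Subsingleton (PrimeSpectrum k))
  have hs : Surjective (Spec.map (CommRingCat.ofHom i)) :=
    ⟨fun y => ⟨(default : PrimeSpectrum K), Subsingleton.elim _ _⟩⟩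
  let _ := i.toAlgebra
  have hfl : Flat (Spec.map (CommRingCat.ofHom i)) := by
    rw [Flat.SpecMap_iff]
    change (algebraMap k K).Flat
    rw [RingHom.flat_algebraMap_iff]
    infer_instance
  have hq : Surjective q := MorphismProperty.of_isPullback H.flip hs
  have hq2 : Flat q := MorphismProperty.of_isPullback H.flip hfl
  refine ⟨isIntegral_of_flat_surjective q, ?_⟩
  rw [← h2, ← K106.Dim.topologicalKrullDim_bc_eq b K]
  let e : pullback b (Spec.map (CommRingCat.ofHom (algebraMap k K))) ≅ W := (IsPullback.of_hasPullback b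
    (Spec.map (CommRingCat.ofHom (algebraMap k K)))).isoIsPullback _ _ H
  exact (Scheme.homeoOfIso e).isHomeomorph.topologicalKrullDim_eq

end K107.DelPezzo
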