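import Groth.Agent.CycB.RelDim4
import Groth.Agent.Fdesc.GenTop
import Mathlib.AlgebraicGeometry.Morphisms.UniversallyOpen
import Mathlib.AlgebraicGeometry.Morphisms.Flat

/-!
# Dimensions of irreducible components of products over a field and of base changes
-/

set_option autoImplicit false
universe u
open CategoryTheory CategoryTheory.Limits AlgebraicGeometry Groth.Agent.CycB.RelDim

namespace K107.DimComp

variable {k : Type u} [Field k]

theorem dim_closure {X : Scheme.{u}} (f : X ⟶ Spec (CommRingCat.of k)) [LocallyOfFiniteType f]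
    (x : X) : ∃ n : ℕ, rtd f x = n ∧ topologicalKrullDim (closure {x} : Set X) = n := by
  refine exists_dim_closure f (isAffineOpen_top _) ?_ x
  exact MulEquiv.isField (Field.toIsField k)
    (Scheme.ΓSpecIso (CommRingCat.of k)).commRingCatIsoToRingEquiv.toMulEquiv

theorem flat_to_field {Y : Scheme.{u}} (g : Y ⟶ Spec (CommRingCat.of k)) : Flat g := by
  infer_instance

theorem generalizing_fst {X Y : Scheme.{u}} (f : X ⟶ Spec (CommRingCat.of k))
    (g : Y ⟶ Spec (CommRingCat.of k)) : GeneralizingMap (pullback.fst f g) := by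
  have := flat_to_field g
  exact Flat.generalizingMap _

theorem generalizing_snd {X Y : Scheme.{u}} (f : X ⟶ Spec (CommRingCat.of k))
    (g : Y ⟶ Spec (CommRingCat.of k)) : GeneralizingMap (pullback.snd f g) := by
  have := flat_to_field f
  exact Flat.generalizingMap _

theorem eq_genericPoint {X : Scheme.{u}} [IrreducibleSpace X] {x : X} (hx : x ∈ genericPoints X) :
    x = genericPoint X :=
  ((Groth.Agent.Fdesc.GenTop.mem_genericPoints_iff.1 hx) _ (genericPoint_specializes x)).symm

theorem dim_univ (T : Type*) [TopologicalSpace T] :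
    topologicalKrullDim (Set.univ : Set T) = topologicalKrullDim T :=
  (Homeomorph.Set.univ T).isHomeomorph.topologicalKrullDim_eq

theorem dim_closure_genericPoint (X : Scheme.{u}) [IrreducibleSpace X] :
    topologicalKrullDim (closure {genericPoint X} : Set X) = topologicalKrullDim X := by
  rw [genericPoint_closure, dim_univ]

/-- The relative transcendence degree at a generic point of a product over a field. -/
theorem rtd_of_mem_genericPoints {X Y : Scheme.{u}} (f : X ⟶ Spec (CommRingCat.of k))
    (g : Y ⟶ Spec (CommRingCat.of k)) {z : ↥(pullback f g)}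
    (hz : ∀ t : ↥(pullback f g), pullback.fst f g t = pullback.fst f g z →
      pullback.snd f g t = pullback.snd f g z → t ⤳ z → t = z) :
    rtd (pullback.snd f g ≫ g) z = rtd f (pullback.fst f g z) + rtd g (pullback.snd f g z) := by
  rw [rtd_comp, rtd_snd_eq z hz, add_comm]

theorem dim_component_pullback {X Y : Scheme.{u}} (f : X ⟶ Spec (CommRingCat.of k))
    (g : Y ⟶ Spec (CommRingCat.of k)) [IrreducibleSpace X] [IrreducibleSpace Y]
    [LocallyOfFiniteType f] [LocallyOfFiniteType g] (Z : Set ↥(pullback f g))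
    (hZ : Z ∈ irreducibleComponents ↥(pullback f g)) :
    topologicalKrullDim ↥Z = topologicalKrullDim ↥X + topologicalKrullDim ↥Y := by
  obtain ⟨z, hz, rfl⟩ := Groth.Agent.Fdesc.GenTop.exists_genericPoints_of_component hZ
  have h1 := eq_genericPoint
    (Groth.Agent.Fdesc.GenTop.map_mem_genericPoints (generalizing_fst f g) hz)
  have h2 := eq_genericPoint
    (Groth.Agent.Fdesc.GenTop.map_mem_genericPoints (generalizing_snd f g) hz)
  obtain ⟨n, hn, hn'⟩ := dim_closure (pullback.snd f g ≫ g) z
  obtain ⟨a, ha, ha'⟩ := dim_closure f (genericPoint X)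
  obtain ⟨b, hb, hb'⟩ := dim_closure g (genericPoint Y)
  have h3 := rtd_of_mem_genericPoints f g (z := z) fun t _ _ ht =>
    (Groth.Agent.Fdesc.GenTop.mem_genericPoints_iff.1 hz) t ht
  rw [h1, h2, ha, hb, hn] at h3
  have h4 : n = a + b := by exact_mod_cast h3
  rw [hn', ← dim_closure_genericPoint X, ← dim_closure_genericPoint Y, ha', hb', h4]
  push_cast
  rfl

/-- dimension of the closure of a point of `X_K` which is generic in the fibre over its image -/
theorem dim_closure_bc {K : Type u} [Field K] {X : Scheme.{u}} (f : X ⟶ Spec (CommRingCat.of k))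
    [LocallyOfFiniteType f] (σ : Spec (CommRingCat.of K) ⟶ Spec (CommRingCat.of k))
    (w : ↥(pullback f σ))
    (hw : ∀ t : ↥(pullback f σ), pullback.fst f σ t = pullback.fst f σ w → t ⤳ w → t = w) :
    topologicalKrullDim (closure {w} : Set ↥(pullback f σ)) =
      topologicalKrullDim (closure {pullback.fst f σ w} : Set X) := by
  obtain ⟨n, hn, hn'⟩ := dim_closure (pullback.snd f σ) w
  obtain ⟨a, ha, ha'⟩ := dim_closure f (pullback.fst f σ w)
  have h3 := rtd_snd_eq w fun t ht _ h => hw t ht h
  rw [hn, ha] at h3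
  have h4 : n = a := by exact_mod_cast h3
  rw [hn', ha', h4]

theorem dim_image {S T : Type*} [TopologicalSpace S] [TopologicalSpace T] {i : S → T}
    (hi : Topology.IsEmbedding i) (A : Set S) :
    topologicalKrullDim A = topologicalKrullDim (i '' A : Set T) :=
  (hi.homeomorphImage A).isHomeomorph.topologicalKrullDim_eq

/-- dimension of the irreducible components of the preimage of an irreducible closed subset -/
theorem dim_component_preimage {K : Type u} [Field K] {X : Scheme.{u}}
    (f : X ⟶ Spec (CommRingCat.of k)) [LocallyOfFiniteType f]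
    (σ : Spec (CommRingCat.of K) ⟶ Spec (CommRingCat.of k)) (Z : Set X) (hZc : IsClosed Z)
    (hZi : IsIrreducible Z) (W : Set ↥(⇑(pullback.fst f σ) ⁻¹' Z))
    (hW : W ∈ irreducibleComponents ↥(⇑(pullback.fst f σ) ⁻¹' Z)) :
    topologicalKrullDim ↥W = topologicalKrullDim ↥Z := by
  have hA : IsClosed (⇑(pullback.fst f σ) ⁻¹' Z) := hZc.preimage (pullback.fst f σ).continuous
  have hemb : Topology.IsClosedEmbedding
      (Subtype.val : ↥(⇑(pullback.fst f σ) ⁻¹' Z) → ↥(pullback f σ)) :=
    hA.isClosedEmbedding_subtypeVal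
  have hqs : QuasiSober ↥(⇑(pullback.fst f σ) ⁻¹' Z) := hemb.quasiSober
  obtain ⟨w, hw, rfl⟩ := Groth.Agent.Fdesc.GenTop.exists_genericPoints_of_component hW
  rw [Groth.Agent.Fdesc.GenTop.mem_genericPoints_iff] at hw
  -- the generic point of `Z`
  have hz := hZi.isGenericPoint_genericPoint hZc
  set z := hZi.genericPoint with hzdef
  have hzZ : closure {z} = Z := hz
  have hspec : z ⤳ pullback.fst f σ w.1 := by
    rw [specializes_iff_mem_closure, hzZ]
    exact w.2
  have hmin : ∀ t : ↥(pullback f σ), pullback.fst f σ t ∈ Z → t ⤳ w.1 → t = w.1 := by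
    intro t ht h
    have := hw ⟨t, ht⟩ ((subtype_specializes_iff _ _).2 h)
    exact congrArg Subtype.val this
  obtain ⟨t, ht, ht'⟩ := generalizing_fst f σ hspec
  have htw : t = w.1 := hmin t (by rw [ht', ← hzZ]; exact subset_closure rfl) ht
  have hfw : pullback.fst f σ w.1 = z := by rw [← htw]; exact ht'
  rw [dim_image hemb.isEmbedding, ← hemb.closure_image_eq, Set.image_singleton,
    dim_closure_bc f σ w.1 (fun t ht h => hmin t (by rw [ht]; exact w.2) h), hfw, hzZ]

theorem image_dim_components {K : Type u} [Field K] {X : Scheme.{u}}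
    (f : X ⟶ Spec (CommRingCat.of k)) [LocallyOfFiniteType f]
    (σ : Spec (CommRingCat.of K) ⟶ Spec (CommRingCat.of k)) :
    (fun Z : Set ↥(pullback f σ) => topologicalKrullDim ↥Z) ''
        irreducibleComponents ↥(pullback f σ) =
      (fun Z : Set ↥X => topologicalKrullDim ↥Z) '' irreducibleComponents ↥X := by
  have hsub : Subsingleton (Spec (CommRingCat.of k)) :=
    inferInstanceAs (Subsingleton (PrimeSpectrum k))
  have hs : Surjective σ := ⟨fun y => ⟨(default : PrimeSpectrum K), Subsingleton.elim _ _⟩⟩
  have key : ∀ w ∈ genericPoints ↥(pullback f σ),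
      topologicalKrullDim (closure {w} : Set ↥(pullback f σ)) =
        topologicalKrullDim (closure {pullback.fst f σ w} : Set X) := fun w hw =>
    dim_closure_bc f σ w fun t _ ht =>
      (Groth.Agent.Fdesc.GenTop.mem_genericPoints_iff.1 hw) t ht
  apply Set.Subset.antisymm
  · rintro _ ⟨Z, hZ, rfl⟩
    obtain ⟨z, hz, rfl⟩ := Groth.Agent.Fdesc.GenTop.exists_genericPoints_of_component hZ
    exact ⟨closure {pullback.fst f σ z},
      Groth.Agent.Fdesc.GenTop.map_mem_genericPoints (generalizing_fst f σ) hz, (key z hz).symm⟩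
  · rintro _ ⟨Z, hZ, rfl⟩
    obtain ⟨x, hx, rfl⟩ := Groth.Agent.Fdesc.GenTop.exists_genericPoints_of_component hZ
    obtain ⟨w, hw⟩ := (pullback.fst f σ).surjective x
    obtain ⟨z, hz, hzw⟩ := Groth.Agent.Fdesc.GenTop.exists_genericPoints_specializes w
    have h1 : pullback.fst f σ z = x := by
      refine Groth.Agent.Fdesc.GenTop.mem_genericPoints_iff.1 hx _ ?_
      rw [← hw]
      exact hzw.map (pullback.fst f σ).continuous
    subst h1
    exact ⟨closure {z}, hz, key z hz⟩

end K107.DimComp
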