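import Groth.Agent.Flat2F.LocNoeth

/-!
# Fibres of a locally Noetherian scheme are locally Noetherian
-/

set_option autoImplicit false
universe u
open CategoryTheory CategoryTheory.Limits AlgebraicGeometry TensorProduct

namespace K107.FibNoeth

/-- Any fibre of a morphism whose source is locally Noetherian is locally Noetherian. -/
theorem isLocallyNoetherian_fiber {X Y : Scheme.{u}} (f : X ⟶ Y) [IsLocallyNoetherian X] (y : Y) :
    IsLocallyNoetherian (f.fiber y) := by
  obtain ⟨_, ⟨V : Y.Opens, hV, rfl⟩, hyV, -⟩ := Y.isBasis_affineOpens.exists_subset_of_mem_open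
    (Set.mem_univ y) isOpen_univ
  have e0 : Y.fromSpecResidueField y =
      Spec.map (Y.presheaf.germ V y hyV ≫ Y.residue y) ≫ hV.fromSpec := by
    rw [Spec.map_comp, Scheme.fromSpecResidueField, ← hV.fromSpecStalk_eq_fromSpecStalk hyV,
      IsAffineOpen.fromSpecStalk, Category.assoc]
  have hess : (Y.presheaf.germ V y hyV ≫ Y.residue y).hom.EssFiniteType := by
    rw [CommRingCat.hom_comp]
    refine RingHom.EssFiniteType.comp ?_
      (RingHom.FiniteType.of_surjective _ (Y.residue_surjective y)).essFiniteType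
    letI : Algebra Γ(Y, V) (Y.presheaf.stalk y) := (Y.presheaf.germ V y hyV).hom.toAlgebra
    haveI := hV.isLocalization_stalk ⟨y, hyV⟩
    exact Algebra.EssFiniteType.of_isLocalization (Y.presheaf.stalk y)
      (hV.primeIdealOf ⟨y, hyV⟩).asIdeal.primeCompl
  have hN : IsLocallyNoetherian (pullback f hV.fromSpec) :=
    isLocallyNoetherian_of_isOpenImmersion (pullback.fst f hV.fromSpec)
  have hw : f.fiberι y ≫ f = f.fiberToSpecResidueField y ≫
      Spec.map (Y.presheaf.germ V y hyV ≫ Y.residue y) ≫ hV.fromSpec := by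
    rw [← e0]
    exact pullback.condition
  have H : IsPullback (f.fiberι y) (f.fiberToSpecResidueField y) f
      (Spec.map (Y.presheaf.germ V y hyV ≫ Y.residue y) ≫ hV.fromSpec) := by
    rw [← e0]
    exact IsPullback.of_hasPullback f (Y.fromSpecResidueField y)
  have H2 : IsPullback (pullback.lift (f := f) (g := hV.fromSpec) (f.fiberι y)
      (f.fiberToSpecResidueField y ≫ Spec.map (Y.presheaf.germ V y hyV ≫ Y.residue y))
      (by rw [hw, Category.assoc])) (f.fiberToSpecResidueField y) (pullback.snd f hV.fromSpec)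
      (Spec.map (Y.presheaf.germ V y hyV ≫ Y.residue y)) := by
    refine IsPullback.of_right (h₁₂ := pullback.fst f hV.fromSpec) (v₁₃ := f)
      (h₂₂ := hV.fromSpec) ?_ (pullback.lift_snd _ _ _) (IsPullback.of_hasPullback f hV.fromSpec)
    rw [pullback.lift_fst]
    exact H
  exact Groth.Agent.Flat2F.LocNoeth.isLocallyNoetherian_of_isPullback_essFiniteType H2 hess hN

end K107.FibNoeth
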