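import Groth.Agent.VarietyB.PurelyInsep
import Groth.Agent.VarietyA.GeomIrrF
import Groth.Agent.Fdesc.GeomRed

/-!
# Field tensor products: from finite to arbitrary extensions
-/

set_option autoImplicit false
universe u
open TensorProduct

namespace K107.FieldTens

theorem isReduced_tensor_of_forall_purelyInseparable {k : Type u} [Field k] (A : Type u)
    [CommRing A] [Algebra k A]
    (h : ∀ (k' : Type u) [Field k'] [Algebra k k'] [FiniteDimensional k k']
      [IsPurelyInseparable k k'], IsReduced (A ⊗[k] k'))
    (K : Type u) [CommRing K] [IsReduced K] [Algebra k K] : IsReduced (A ⊗[k] K) := by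
  have h1 := Groth.Agent.VarietyB.PurelyInsep.isGeometricallyReduced_of_forall_purelyInseparable k A h
  have h2 : IsReduced (K ⊗[k] A) :=
    Groth.Agent.Fdesc.GeomRed.isReduced_tensor_of_isGeometricallyReduced A K
  exact isReduced_of_injective (Algebra.TensorProduct.comm k A K)
    (Algebra.TensorProduct.comm k A K).injective

theorem finrank_eq_one_of_isDomain {k : Type u} [Field k] (F : Type u) [Field F] [Algebra k F]
    (E : Type u) [Field E] [Algebra k E] [FiniteDimensional k E] (ι : E →ₐ[k] F)
    (h : IsDomain (F ⊗[k] E)) : Module.finrank k E = 1 := by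
  let φ : F ⊗[k] E →ₐ[F] F :=
    Algebra.TensorProduct.lift (AlgHom.id F F) ι (fun _ _ => Commute.all _ _)
  have hf : IsField (F ⊗[k] E) :=
    isField_of_isIntegral_of_isField' (R := F) (S := F ⊗[k] E) (Field.toIsField F)
  have hinj : Function.Injective φ := by
    rw [injective_iff_map_eq_zero]
    intro x hx
    by_contra hx0
    obtain ⟨y, hy⟩ := hf.mul_inv_cancel hx0
    have h0 : φ (x * y) = 1 := by rw [hy, map_one]
    rw [map_mul, hx, zero_mul] at h0
    exact zero_ne_one h0
  have h2 : Module.finrank F (F ⊗[k] E) ≤ Module.finrank F F :=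
    LinearMap.finrank_le_finrank_of_injective (f := φ.toLinearMap) hinj
  rw [Module.finrank_self, Module.finrank_baseChange] at h2
  exact le_antisymm h2 Module.finrank_pos

theorem mem_range_of_isDomain {k : Type u} [Field k] (F : Type u) [Field F] [Algebra k F]
    (a : F) (ha : IsIntegral k a) (h : IsDomain (F ⊗[k] IntermediateField.adjoin k {a})) :
    a ∈ (algebraMap k F).range := by
  have h1 : FiniteDimensional k (IntermediateField.adjoin k {a}) :=
    IntermediateField.adjoin.finiteDimensional ha
  have h3 : Module.finrank k (IntermediateField.adjoin k {a}) = 1 :=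
    finrank_eq_one_of_isDomain F _ (IntermediateField.adjoin k {a}).val h
  have h4 : IntermediateField.adjoin k {a} = ⊥ := IntermediateField.finrank_eq_one_iff.1 h3
  have h5 : a ∈ (⊥ : IntermediateField k F) := by
    rw [← h4]
    exact IntermediateField.mem_adjoin_simple_self k a
  rw [IntermediateField.mem_bot] at h5
  exact h5

theorem isDomain_tensor_of_forall_finite {k : Type u} [Field k] (F : Type u) [Field F]
    [Algebra k F]
    (h : ∀ (k' : Type u) [Field k'] [Algebra k k'] [FiniteDimensional k k'],
      IsDomain (F ⊗[k] k'))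
    (K : Type u) [Field K] [Algebra k K] : IsDomain (F ⊗[k] K) := by
  have h1 : IsReduced (F ⊗[k] K) :=
    isReduced_tensor_of_forall_purelyInseparable F
      (fun k' _ _ _ _ => by have := h k'; infer_instance) K
  have h2 : (nilradical (K ⊗[k] F)).IsPrime := by
    refine Groth.Agent.VarietyA.GeomIrr.isPrime_nilradical_of_sepClosed_in k F K fun a ha => ?_
    have hi := ha.isIntegral
    have hfd : FiniteDimensional k (IntermediateField.adjoin k {a}) :=
      IntermediateField.adjoin.finiteDimensional hi
    exact mem_range_of_isDomain F a hi (h _)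
  have h3 : IsReduced (K ⊗[k] F) :=
    isReduced_of_injective (Algebra.TensorProduct.comm k K F)
      (Algebra.TensorProduct.comm k K F).injective
  rw [nilradical_eq_zero] at h2
  have h4 : IsDomain (K ⊗[k] F) := @IsDomain.of_bot_isPrime _ _ h2
  exact (Algebra.TensorProduct.comm k F K).toMulEquiv.isDomain _

end K107.FieldTens
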