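import Groth.Agent.Dix.EtMinC
import Groth.Agent.VarietyA.GeomIrrF
import Groth.Agent.Fdesc.GeomRed
import Groth.Agent.Fdesc.BCChart
import Mathlib.AlgebraicGeometry.Morphisms.Proper
import Mathlib.AlgebraicGeometry.ResidueField
import Mathlib.LinearAlgebra.Dimension.Constructions

/-!
# Degrees of finite morphisms and fields of global sections
-/

set_option autoImplicit false
universe u
open CategoryTheory CategoryTheory.Limits AlgebraicGeometry TensorProduct TopologicalSpace

namespace K107.GlobDeg

section Alg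

variable {K E L M : Type*} [CommRing K] [CommRing E] [Field L] [Field M] [Algebra K E]
  [Algebra K L] [Algebra L M] [Algebra E M] [Algebra K M] [IsScalarTower K L M]
  [IsScalarTower K E M]

theorem dvd_of_isDomain [Nontrivial K] [Module.Free K E] [Module.Finite K E]
    [IsDomain (L ⊗[K] E)] : Module.finrank K E ∣ Module.finrank L M := by
  have h0 : Module.finrank L (L ⊗[K] E) = Module.finrank K E := Module.finrank_baseChange
  have hf : IsField (L ⊗[K] E) := by
    have : Algebra.IsIntegral L (L ⊗[K] E) := inferInstance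
    exact isField_of_isIntegral_of_isField' (Field.toIsField L)
  let φ : L ⊗[K] E →ₐ[L] M :=
    Algebra.TensorProduct.lift (Algebra.ofId L M) (IsScalarTower.toAlgHom K E M)
      (fun _ _ => Commute.all _ _)
  let _ : Algebra (L ⊗[K] E) M := φ.toRingHom.toAlgebra
  have : IsScalarTower L (L ⊗[K] E) M :=
    IsScalarTower.of_algebraMap_eq fun x => (φ.commutes x).symm
  have hfree : Module.Free (L ⊗[K] E) M := by
    let _ := hf.toField
    exact Module.Free.of_divisionRing (L ⊗[K] E) M
  rw [← h0]
  exact ⟨_, (Module.finrank_mul_finrank L (L ⊗[K] E) M).symm⟩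

end Alg

section Sch

variable {X : Scheme.{u}} [IsIntegral X]

instance nonempty_top : Nonempty (⊤ : X.Opens) := ⟨⟨genericPoint X, trivial⟩⟩

/-- On a normal scheme, the ring of global sections is algebraically closed in the function field;
if moreover the scheme is geometrically reduced over its field of global sections then the function
field is a regular extension. -/
theorem isDomain_tensor (hN : ∀ x : X, IsIntegrallyClosed (X.presheaf.stalk x))
    (hK : IsField Γ(X, ⊤)) {E : Type u} [CommRing E] [IsDomain E] [Algebra Γ(X, ⊤) E]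
    [IsReduced (pullback X.toSpecΓ
      (Spec.map (CommRingCat.ofHom (algebraMap Γ(X, ⊤) E))))] :
    IsDomain (X.functionField ⊗[Γ(X, ⊤)] E) := by
  obtain ⟨_, ⟨U, hU, rfl⟩, hxU, -⟩ :=
    X.isBasis_affineOpens.exists_subset_of_mem_open (Set.mem_univ (genericPoint X)) isOpen_univ
  have hne : Nonempty U := ⟨⟨_, hxU⟩⟩
  have hfr : IsFractionRing Γ(X, U) X.functionField :=
    functionField_isFractionRing_of_isAffineOpen X _ hU
  let _ : Algebra Γ(X, ⊤) Γ(X, U) := (X.presheaf.map (homOfLE le_top).op).hom.toAlgebra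
  have hst : IsScalarTower Γ(X, ⊤) Γ(X, U) X.functionField :=
    IsScalarTower.of_algebraMap_eq fun x =>
      (congrArg (fun g => g.hom x) (X.presheaf.germ_res (homOfLE le_top : U ⟶ ⊤)
        (genericPoint X) hxU)).symm
  have hred1 : IsReduced (Γ(X, U) ⊗[Γ(X, ⊤)] E) :=
    Groth.Agent.Fdesc.BCChart.isReduced_chart
      (IsPullback.of_hasPullback X.toSpecΓ
        (Spec.map (CommRingCat.ofHom (algebraMap Γ(X, ⊤) E)))) hU.fromSpec
      hU.fromSpec_toSpecΓ
  have hred2 : _root_.IsReduced (X.functionField ⊗[Γ(X, ⊤)] E) :=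
    Groth.Agent.Fdesc.GeomRed.isReduced_tensor_of_isLocalization
      (nonZeroDivisors Γ(X, U)) X.functionField E
  have hint : ∀ a : X.functionField, IsIntegral Γ(X, ⊤) a →
      a ∈ (algebraMap Γ(X, ⊤) X.functionField).range := by
    intro a ha
    obtain ⟨b, hb⟩ := Groth.Agent.Dix.EtMinC.mem_range_of_isIntegralElem hN a ha
    exact ⟨b, hb⟩
  have hprime : (nilradical (E ⊗[Γ(X, ⊤)] X.functionField)).IsPrime := by
    let _ := hK.toField
    exact Groth.Agent.VarietyA.GeomIrr.isPrime_nilradical_of_sepClosed_in Γ(X, ⊤)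
      X.functionField E (fun a ha => hint a ha.isIntegral)
  have hred3 : _root_.IsReduced (E ⊗[Γ(X, ⊤)] X.functionField) :=
    isReduced_of_injective _
      (Algebra.TensorProduct.comm Γ(X, ⊤) E X.functionField).injective
  rw [nilradical_eq_zero] at hprime
  have hdom : IsDomain (E ⊗[Γ(X, ⊤)] X.functionField) := by
    have : (⊥ : Ideal (E ⊗[Γ(X, ⊤)] X.functionField)).IsPrime := hprime
    exact IsDomain.of_bot_isPrime _
  exact (Algebra.TensorProduct.comm Γ(X, ⊤) X.functionField E).toMulEquiv.isDomain _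

theorem isDomain_tensor_residueField (hN : ∀ x : X, IsIntegrallyClosed (X.presheaf.stalk x))
    (hK : IsField Γ(X, ⊤)) {E : Type u} [CommRing E] [IsDomain E] [Algebra Γ(X, ⊤) E]
    [IsReduced (pullback X.toSpecΓ
      (Spec.map (CommRingCat.ofHom (algebraMap Γ(X, ⊤) E))))]
    (x : X) (hx : x = genericPoint X) :
    letI : Algebra Γ(X, ⊤) (X.residueField x) := (X.Γevaluation x).hom.toAlgebra
    IsDomain (X.residueField x ⊗[Γ(X, ⊤)] E) := by
  subst hx
  let _ : Algebra Γ(X, ⊤) (X.residueField (genericPoint X)) :=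
    (X.Γevaluation (genericPoint X)).hom.toAlgebra
  have h1 := isDomain_tensor hN hK (E := E)
  let φ : X.functionField →ₐ[Γ(X, ⊤)] X.residueField (genericPoint X) :=
    { (X.residue (genericPoint X)).hom with
      commutes' := fun r => rfl }
  have hφ : Function.Bijective φ := by
    refine ⟨?_, X.residue_surjective (genericPoint X)⟩
    exact (X.residue (genericPoint X)).hom.injective
  let e := AlgEquiv.ofBijective φ hφ
  exact (Algebra.TensorProduct.congr e.symm
    (AlgEquiv.refl : E ≃ₐ[Γ(X, ⊤)] E)).toMulEquiv.isDomain _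

/-- the image of the generic point under a surjective morphism -/
theorem map_genericPoint {Z : Scheme.{u}} [IsIntegral Z] (f : Z ⟶ X) [Surjective f] :
    f (genericPoint Z) = genericPoint X := by
  obtain ⟨z, hz⟩ := f.surjective (genericPoint X)
  have h1 : f (genericPoint Z) ⤳ f z := (genericPoint_specializes z).map f.continuous
  rw [hz] at h1
  exact (h1.antisymm (genericPoint_specializes _)).eq

theorem finrank_dvd (k : Type u) [Field k] {Z : Scheme.{u}} [IsIntegral Z]
    (a : X ⟶ Spec (CommRingCat.of k)) (b : Z ⟶ Spec (CommRingCat.of k)) [IsProper a] [IsProper b]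
    (hN : ∀ x : X, IsIntegrallyClosed (X.presheaf.stalk x)) (f : Z ⟶ X) (hf : f ≫ a = b)
    [Surjective f] (hgr : ∀ (E : Type u) [Field E] (i : Γ(X, ⊤) →+* E),
      IsReduced (pullback X.toSpecΓ (Spec.map (CommRingCat.ofHom i)))) :
    letI := f.appTop.hom.toAlgebra
    letI := (f.residueFieldMap (genericPoint Z)).hom.toAlgebra
    Module.finrank Γ(X, ⊤) Γ(Z, ⊤) ∣
      Module.finrank (X.residueField (f (genericPoint Z))) (Z.residueField (genericPoint Z)) := by
  let _ := f.appTop.hom.toAlgebra
  let _ := (f.residueFieldMap (genericPoint Z)).hom.toAlgebra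
  have hK : IsField Γ(X, ⊤) := isField_of_universallyClosed k a
  have hE : IsField Γ(Z, ⊤) := isField_of_universallyClosed k b
  let _ : Algebra Γ(X, ⊤) (X.residueField (f (genericPoint Z))) :=
    (X.Γevaluation (f (genericPoint Z))).hom.toAlgebra
  let _ : Algebra Γ(Z, ⊤) (Z.residueField (genericPoint Z)) :=
    (Z.Γevaluation (genericPoint Z)).hom.toAlgebra
  let _ : Algebra Γ(X, ⊤) (Z.residueField (genericPoint Z)) :=
    ((f.residueFieldMap (genericPoint Z)).hom.comp
      (X.Γevaluation (f (genericPoint Z))).hom).toAlgebra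
  have h1 : IsScalarTower Γ(X, ⊤) (X.residueField (f (genericPoint Z)))
      (Z.residueField (genericPoint Z)) := IsScalarTower.of_algebraMap_eq fun x => rfl
  have h2 : IsScalarTower Γ(X, ⊤) Γ(Z, ⊤) (Z.residueField (genericPoint Z)) :=
    IsScalarTower.of_algebraMap_eq fun x =>
      congrArg (fun g => g.hom x) (Scheme.evaluation_naturality f (V := ⊤) (genericPoint Z) trivial)
  have h3 : IsDomain Γ(Z, ⊤) := hE.isDomain
  have h4 : IsReduced (pullback X.toSpecΓ
      (Spec.map (CommRingCat.ofHom (algebraMap Γ(X, ⊤) Γ(Z, ⊤))))) := by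
    let _ := hE.toField
    exact hgr Γ(Z, ⊤) (algebraMap Γ(X, ⊤) Γ(Z, ⊤))
  have h5 := isDomain_tensor_residueField hN hK (E := Γ(Z, ⊤)) _ (map_genericPoint f)
  have h6 : Module.Free Γ(X, ⊤) Γ(Z, ⊤) := by
    let _ := hK.toField
    exact Module.Free.of_divisionRing Γ(X, ⊤) Γ(Z, ⊤)
  have h7 : Module.Finite Γ(X, ⊤) Γ(Z, ⊤) := by
    have h8 : b.appTop.hom.Finite := finite_appTop_of_universallyClosed k b
    have h9 : b.appTop.hom = f.appTop.hom.comp a.appTop.hom := by
      rw [← hf, Scheme.Hom.comp_appTop]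
      rfl
    rw [h9] at h8
    exact RingHom.Finite.of_comp_finite h8
  exact dvd_of_isDomain

end Sch

end K107.GlobDeg
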