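import Mathlib.AlgebraicGeometry.Geometrically.Irreducible
import Mathlib.AlgebraicGeometry.Morphisms.Flat
import Mathlib.AlgebraicGeometry.Morphisms.UniversallyOpen
import Mathlib.AlgebraicGeometry.Fiber
import Groth.Agent.S2543

/-!
# Composition of a flat morphism with geometrically irreducible generic fibre and a geometrically
irreducible scheme over a field
-/

set_option autoImplicit false
universe u
open CategoryTheory CategoryTheory.Limits AlgebraicGeometry

namespace K107.IrrComp

/-- A generalizing map between irreducible spaces maps the generic point to the generic point. -/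
theorem map_genericPoint {X Y : Scheme.{u}} (g : X ⟶ Y) (hg : GeneralizingMap g.base)
    [IrreducibleSpace X] [IrreducibleSpace Y] : g (genericPoint X) = genericPoint Y := by
  obtain ⟨x', hx', hx''⟩ := hg (genericPoint_specializes (g.base (genericPoint X)))
  have h1 : x' = genericPoint X := (hx'.antisymm (genericPoint_specializes x')).eq
  subst h1
  exact hx''

/-- preimage of a point under a base change of a morphism with geometrically irreducible fibre -/
theorem isIrreducible_preimage {X C X' C' : Scheme.{u}} {f : X ⟶ C} {g : C' ⟶ C} {g' : X' ⟶ X}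
    {f' : X' ⟶ C'} (hsq : IsPullback g' f' f g) (s : C) (s' : C') (hs : g s' = s)
    [GeometricallyIrreducible (f.fiberToSpecResidueField s)] : IsIrreducible (f'.base ⁻¹' {s'}) := by
  subst hs
  have h3 : IrreducibleSpace ↑(f'.fiber s') :=
    GeometricallyIrreducible.geometrically_irreducibleSpace
      (f := f.fiberToSpecResidueField (g s')) _ _ _
      (isPullback_fiberToSpecResidueField_of_isPullback hsq s')
  have h4 := (irreducibleSpace_def _).1 h3
  have h5 := h4.image (f'.fiberι s').base (f'.fiberι s').continuous.continuousOn
  rw [Set.top_eq_univ, Set.image_univ] at h5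
  rw [← f'.range_fiberι s']
  exact h5

theorem geometricallyIrreducible_comp {k : Type u} [Field k] {X C : Scheme.{u}} (f : X ⟶ C)
    (c : C ⟶ Spec (CommRingCat.of k)) [IrreducibleSpace C] [GeometricallyIrreducible c] [Flat f]
    [GeometricallyIrreducible (f.fiberToSpecResidueField (genericPoint C))] :
    GeometricallyIrreducible (f ≫ c) := by
  refine ⟨?_⟩
  rw [geometrically_iff_of_isClosedUnderIsomorphisms]
  intro K _ y
  let g : pullback c y ⟶ C := pullback.fst c y
  have hw : pullback.fst (f ≫ c) y ≫ f ≫ c = pullback.snd (f ≫ c) y ≫ y := pullback.condition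
  let fK : pullback (f ≫ c) y ⟶ pullback c y :=
    pullback.lift (pullback.fst (f ≫ c) y ≫ f) (pullback.snd (f ≫ c) y)
      (by rw [Category.assoc]; exact hw)
  have hsq : IsPullback (pullback.fst (f ≫ c) y) fK f g := by
    refine IsPullback.of_bot (v₂₁ := pullback.snd c y) (v₂₂ := c) (h₃₁ := y) ?_ ?_
      (IsPullback.of_hasPullback c y)
    · have : fK ≫ pullback.snd c y = pullback.snd (f ≫ c) y := pullback.lift_snd _ _ _
      rw [this]
      exact IsPullback.of_hasPullback (f ≫ c) y
    · exact (pullback.lift_fst _ _ _).symm
  have hC : IrreducibleSpace ↑(pullback c y) :=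
    pullback_of_geometrically (P := (IrreducibleSpace ·))
      (GeometricallyIrreducible.geometrically_irreducibleSpace (f := c)) K y
  have hfy : Flat y := by
    obtain ⟨φ, rfl⟩ := Spec.map_surjective y
    infer_instance
  have hfg : Flat g := inferInstanceAs (Flat (pullback.fst c y))
  have hffK : Flat fK := MorphismProperty.of_isPullback hsq ‹_›
  exact Groth.Agent.S2543.result fK (Flat.generalizingMap fK)
    (isIrreducible_preimage hsq (genericPoint C) _ (map_genericPoint g (Flat.generalizingMap g)))

end K107.IrrComp
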