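import Groth.Agent.Divis.CartierStalk
import Groth.Agent.Fdesc.GenTop
import Groth.Agent.FBase.K107.DimComp
import Groth.Agent.FBase.K107.Sep
import Mathlib.RingTheory.LocalRing.Length

/-!
# Lengths of local rings at generic points under base change
-/

set_option autoImplicit false
universe u
open CategoryTheory CategoryTheory.Limits AlgebraicGeometry TensorProduct

namespace K107.LenStalk

/-- The local ring at a generic point has a unique prime ideal. -/
theorem eq_closedPoint {X : Scheme.{u}} {x : X} (hx : x ∈ genericPoints X)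
    (p : PrimeSpectrum (X.presheaf.stalk x)) :
    p = IsLocalRing.closedPoint (X.presheaf.stalk x) := by
  have h1 : X.fromSpecStalk x p ⤳ x := by
    have : X.fromSpecStalk x p ∈ Set.range (X.fromSpecStalk x) := ⟨p, rfl⟩
    rwa [Scheme.range_fromSpecStalk] at this
  have h2 : X.fromSpecStalk x p = x :=
    Groth.Agent.Fdesc.GenTop.mem_genericPoints_iff.1 hx _ h1
  have h3 : X.fromSpecStalk x (IsLocalRing.closedPoint (X.presheaf.stalk x)) = x :=
    Scheme.fromSpecStalk_closedPoint
  exact (X.fromSpecStalk x).isEmbedding.injective (h2.trans h3.symm)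

theorem isField_of_isReduced {C : Type u} [CommRing C] [IsLocalRing C] [IsReduced C]
    (h : ∀ p : PrimeSpectrum C, p = IsLocalRing.closedPoint C) : IsField C := by
  rw [IsLocalRing.isField_iff_maximalIdeal_eq]
  have h1 : nilradical C = IsLocalRing.maximalIdeal C := by
    rw [nilradical_eq_sInf]
    refine le_antisymm (sInf_le (IsLocalRing.maximalIdeal.isMaximal C).isPrime) ?_
    refine le_sInf fun p hp => ?_
    have := h ⟨p, hp⟩
    exact (congrArg PrimeSpectrum.asIdeal this).ge
  rw [← h1, nilradical_eq_zero]
  rfl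

theorem isField_of_surjective {A C : Type u} [CommRing A] [IsLocalRing A] [CommRing C]
    [IsLocalRing C] [IsReduced C] (φ : A →+* C) (hφ : Function.Surjective φ)
    (h : ∀ p : PrimeSpectrum A, p = IsLocalRing.closedPoint A) : IsField C := by
  refine isField_of_isReduced fun p => ?_
  refine PrimeSpectrum.comap_injective_of_surjective φ hφ ?_
  rw [h (PrimeSpectrum.comap φ p), h (PrimeSpectrum.comap φ _)]

theorem ker_eq_maximalIdeal {A C : Type u} [CommRing A] [IsLocalRing A] [CommRing C]
    [IsLocalRing C] [IsReduced C] (φ : A →+* C) (hφ : Function.Surjective φ)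
    (h : ∀ p : PrimeSpectrum A, p = IsLocalRing.closedPoint A) :
    RingHom.ker φ = IsLocalRing.maximalIdeal A := by
  have hC := isField_of_surjective φ hφ h
  have : IsDomain C := hC.isDomain
  exact congrArg PrimeSpectrum.asIdeal (h ⟨RingHom.ker φ, RingHom.ker_isPrime φ⟩)

theorem length_field {C : Type u} [CommRing C] (h : IsField C) : Module.length C C = 1 := by
  let _ := h.toField
  rw [Module.length_eq_one_iff]
  infer_instance

/-- length of a quotient ring over itself -/
theorem length_self_eq {B C : Type u} [CommRing B] [CommRing C] (φ : B →+* C)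
    (hφ : Function.Surjective φ) :
    Module.length C C = Module.length B (B ⧸ RingHom.ker φ) := by
  let _ := φ.toAlgebra
  have h1 : Module.length B C = Module.length C C :=
    Module.length_eq_of_surjective (S := B) (R := C) (M := C) hφ
  rw [← h1]
  let e : (B ⧸ RingHom.ker φ) ≃+* C := RingHom.quotientKerEquivOfSurjective hφ
  let e' : (B ⧸ RingHom.ker φ) ≃ₗ[B] C :=
    { e with
      map_smul' := fun b x => by
        obtain ⟨y, rfl⟩ := Ideal.Quotient.mk_surjective x
        change φ (b * y) = φ b * φ y
        exact map_mul φ b y }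
  exact e'.length_eq.symm

/-- base change of a morphism over a base: the cartesian square -/
theorem isPullback_map {X Y S T : Scheme.{u}} (g : Y ⟶ X) (f : X ⟶ S) (i : T ⟶ S)
    (h1 : (g ≫ f) ≫ 𝟙 S = g ≫ f) (h2 : i ≫ 𝟙 S = 𝟙 T ≫ i) :
    IsPullback (pullback.map (g ≫ f) i f i g (𝟙 T) (𝟙 S) h1 h2) (pullback.fst (g ≫ f) i)
      (pullback.fst f i) g := by
  refine IsPullback.of_right (h₁₂ := pullback.snd f i) (v₁₃ := i) (h₂₂ := f) ?_ ?_ ?_
  · rw [pullback.map, pullback.lift_snd, Category.comp_id]
    exact (IsPullback.of_hasPullback (g ≫ f) i).flip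
  · rw [pullback.map, pullback.lift_fst]
  · exact (IsPullback.of_hasPullback f i).flip

theorem isReduced_subscheme_nilradical (X : Scheme.{u}) : IsReduced X.nilradical.subscheme := by
  rw [← Scheme.IdealSheafData.vanishingIdeal_top]
  exact Groth.Agent.Ega1.ReducedSub.isReduced_subscheme_vanishingIdeal _

section

variable {X' X'' Z' Z'' : Scheme.{u}} {ι : Z' ⟶ X'} {π : X'' ⟶ X'} {j : Z'' ⟶ X''} {q : Z'' ⟶ Z'}
  [IsClosedImmersion ι] (H : IsPullback j q π ι)

include H in
theorem ker_stalkMap (z : Z'') :
    RingHom.ker (j.stalkMap z).hom =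
      (Groth.Agent.Divis.CartierBasic.stalkIdeal ι.ker (π (j z))).map (π.stalkMap (j z)).hom := by
  have h0 : IsClosedImmersion j := MorphismProperty.of_isPullback (P := @IsClosedImmersion) H.flip
    inferInstance
  have h1 : j.ker = ι.ker.comap π := by
    rw [← Scheme.IdealSheafData.ker_fst_of_isClosedImmersion ι π,
      ← H.isoPullback_hom_fst, Scheme.Hom.ker_comp_of_isIso]
  rw [Groth.Agent.Divis.CartierStalk.ker_stalkMap, h1,
    Groth.Agent.Divis.CartierStalk.stalkIdeal_comap]

include H in
/-- The kernel of `O_{X'',x''} → O_{Z'',z''}` for `Z'` reduced at generic points of `X'`. -/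
theorem ker_stalkMap_eq [IsReduced Z'] (z : Z'') (hx : π (j z) ∈ genericPoints X') :
    RingHom.ker (j.stalkMap z).hom =
      (IsLocalRing.maximalIdeal (X'.presheaf.stalk (π (j z)))).map (π.stalkMap (j z)).hom := by
  rw [ker_stalkMap H z]
  congr 1
  have key : ∀ (w : Z') (y : X'), ι w = y → y ∈ genericPoints X' →
      Groth.Agent.Divis.CartierBasic.stalkIdeal ι.ker y = IsLocalRing.maximalIdeal (X'.presheaf.stalk y) := by
    rintro w _ rfl hw
    have h2 : RingHom.ker (ι.stalkMap w).hom = Groth.Agent.Divis.CartierBasic.stalkIdeal ι.ker (ι w) := by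
      rw [Groth.Agent.Divis.CartierStalk.ker_stalkMap]
    rw [← h2]
    exact ker_eq_maximalIdeal _ (ι.stalkMap_surjective w) (eq_closedPoint hw)
  refine key (q z) _ ?_ hx
  rw [← Scheme.Hom.comp_apply, ← H.w, Scheme.Hom.comp_apply]

include H in
theorem length_stalk_eq_mul [Flat π] [IsReduced Z'] (z : Z'') (hx : π (j z) ∈ genericPoints X') :
    Module.length (X''.presheaf.stalk (j z)) (X''.presheaf.stalk (j z)) =
      Module.length (X'.presheaf.stalk (π (j z))) (X'.presheaf.stalk (π (j z))) *
        Module.length (Z''.presheaf.stalk z) (Z''.presheaf.stalk z) := by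
  have h0 : IsClosedImmersion j := MorphismProperty.of_isPullback (P := @IsClosedImmersion) H.flip
    inferInstance
  let _ := (π.stalkMap (j z)).hom.toAlgebra
  have hl : IsLocalHom (algebraMap (X'.presheaf.stalk (π (j z))) (X''.presheaf.stalk (j z))) :=
    inferInstanceAs (IsLocalHom (π.stalkMap (j z)).hom)
  have hf : Module.Flat (X'.presheaf.stalk (π (j z))) (X''.presheaf.stalk (j z)) :=
    Flat.stalkMap π (j z)
  have h1 := IsLocalRing.length_baseChange (X'.presheaf.stalk (π (j z)))
    (X''.presheaf.stalk (j z)) (X'.presheaf.stalk (π (j z)))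
  rw [(TensorProduct.AlgebraTensorModule.rid (X'.presheaf.stalk (π (j z)))
    (X''.presheaf.stalk (j z)) (X''.presheaf.stalk (j z))).length_eq] at h1
  rw [h1, length_self_eq (j.stalkMap z).hom (j.stalkMap_surjective z), ker_stalkMap_eq H z hx]
  rfl

include H in
theorem length_stalk_eq [Flat π] [IsReduced Z'] [IsReduced Z''] (z : Z'')
    (hz : j z ∈ genericPoints X'') (hx : π (j z) ∈ genericPoints X') :
    Module.length (X''.presheaf.stalk (j z)) (X''.presheaf.stalk (j z)) =
      Module.length (X'.presheaf.stalk (π (j z))) (X'.presheaf.stalk (π (j z))) := by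
  have h0 : IsClosedImmersion j := MorphismProperty.of_isPullback (P := @IsClosedImmersion) H.flip
    inferInstance
  rw [length_stalk_eq_mul H z hx, length_field (isField_of_surjective (j.stalkMap z).hom
    (j.stalkMap_surjective z) (eq_closedPoint hz)), mul_one]

end

end K107.LenStalk
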