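import Groth.Agent.S2546
import Groth.Agent.S2513
import Groth.Agent.FBase.K107.LenStalk

/-!
# Reduced modules: invariance, structure sheaves
-/

set_option autoImplicit false
universe u
open CategoryTheory CategoryTheory.Limits AlgebraicGeometry TensorProduct

namespace K107.ModStk

open Groth.Agent Groth.Agent.Fdesc Groth.Agent.Fdesc.AssFlat Groth.Agent.Fdesc.PullbackStalk

variable {X Y : Scheme.{u}}

/-- Stalkwise isomorphic modules have the same associated points. -/
theorem mem_Ass_iff_of_equiv {M N : X.Modules} {x : X}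
    (e : M.presheaf.stalk x ≃ₗ[X.presheaf.stalk x] N.presheaf.stalk x) :
    x ∈ AssSch.Ass M ↔ x ∈ AssSch.Ass N :=
  e.isAssociatedPrime_iff

theorem isReducedMod_congr_stalk {M N : X.Modules}
    (h : ∀ x : X, Nonempty (M.presheaf.stalk x ≃ₗ[X.presheaf.stalk x] N.presheaf.stalk x)) :
    AssSch.IsReducedMod M ↔ AssSch.IsReducedMod N := by
  have hA : AssSch.Ass M = AssSch.Ass N := by
    ext x
    exact mem_Ass_iff_of_equiv (h x).some
  have hl : ∀ x : X, Module.length (X.presheaf.stalk x) (M.presheaf.stalk x) =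
      Module.length (X.presheaf.stalk x) (N.presheaf.stalk x) := fun x => (h x).some.length_eq
  unfold AssSch.IsReducedMod AssSch.NoEmbedded
  simp only [hA, hl]

/-- `f^*E ⊗ O_X` and `f^* E` have the same stalks. -/
noncomputable def tensorStructEquiv (f : X ⟶ Y) (E : Y.Modules) (x : X) :
    (CohB1.tensorMod ((Scheme.Modules.pullback f).obj E)
      (Coh.structureModule X)).presheaf.stalk x ≃ₗ[X.presheaf.stalk x]
      ((Scheme.Modules.pullback f).obj E).presheaf.stalk x :=
  (tensorModStalk _ _ x).trans
    ((TensorProduct.congr (LinearEquiv.refl _ _) (StructMod.stalkEquiv x).symm).trans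
      (TensorProduct.rid (X.presheaf.stalk x) _))

theorem isReducedMod_tensor_struct_iff (f : X ⟶ Y) (E : Y.Modules) :
    AssSch.IsReducedMod (CohB1.tensorMod ((Scheme.Modules.pullback f).obj E)
      (Coh.structureModule X)) ↔ AssSch.IsReducedMod ((Scheme.Modules.pullback f).obj E) :=
  isReducedMod_congr_stalk fun x => ⟨tensorStructEquiv f E x⟩

/-- The pullback of the structure sheaf has the stalks of the structure sheaf. -/
noncomputable def pullbackStructEquiv (i : X ⟶ Y) (x : X) :
    ((Scheme.Modules.pullback i).obj (Coh.structureModule Y)).presheaf.stalk x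
      ≃ₗ[X.presheaf.stalk x] (Coh.structureModule X).presheaf.stalk x :=
  letI := PullbackStalk.stalkAlg i x
  (PullbackStalk.stalkPullbackEquiv i (Coh.structureModule Y) x).symm.trans
    ((AlgebraTensorModule.congr (LinearEquiv.refl (X.presheaf.stalk x) (X.presheaf.stalk x))
      (StructMod.stalkEquiv (i.base x)).symm).trans
      ((AlgebraTensorModule.rid (Y.presheaf.stalk (i.base x)) (X.presheaf.stalk x)
        (X.presheaf.stalk x)).trans (StructMod.stalkEquiv x)))

theorem isReducedMod_pullback_struct_iff (i : X ⟶ Y) :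
    AssSch.IsReducedMod ((Scheme.Modules.pullback i).obj (Coh.structureModule Y)) ↔
      AssSch.IsReducedMod (Coh.structureModule X) :=
  isReducedMod_congr_stalk fun x => ⟨pullbackStructEquiv i x⟩

theorem length_structureModule (x : X) :
    Module.length (X.presheaf.stalk x) ((Coh.structureModule X).presheaf.stalk x) =
      Module.length (X.presheaf.stalk x) (X.presheaf.stalk x) :=
  (StructMod.stalkEquiv x).length_eq.symm

theorem isField_of_length {A : Type u} [CommRing A] (h : Module.length A A = 1) : IsField A := by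
  rw [Module.length_eq_one_iff, isSimpleModule_self_iff_isUnit] at h
  obtain ⟨h1, h2⟩ := h
  exact ⟨⟨0, 1, zero_ne_one⟩, mul_comm, fun {a} ha => (h2 a ha).exists_right_inv⟩

/-- On a locally Noetherian affine scheme: if `O` is a reduced module then the scheme is reduced. -/
theorem isReduced_of_isReducedMod [IsAffine X] [IsLocallyNoetherian X]
    (h : AssSch.IsReducedMod (Coh.structureModule X)) : _root_.IsReduced Γ(X, ⊤) := by
  have hW := isAffineOpen_top X
  have hN : IsNoetherianRing Γ(X, ⊤) := IsLocallyNoetherian.component_noetherian ⟨⊤, hW⟩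
  refine ⟨fun a ha => ?_⟩
  by_contra hne
  obtain ⟨p, hp, hle⟩ := exists_le_isAssociatedPrime_of_isNoetherianRing (R := Γ(X, ⊤))
    (M := Γ(X, ⊤)) a hne
  have hpp : p.IsPrime := hp.isPrime
  obtain ⟨z, hz⟩ : ∃ z : X, (hW.primeIdealOf ⟨z, trivial⟩).asIdeal = p := by
    refine ⟨hW.fromSpec ⟨p, hpp⟩, ?_⟩
    have h1 := hW.fromSpec_primeIdealOf ⟨hW.fromSpec ⟨p, hpp⟩, trivial⟩
    exact congrArg PrimeSpectrum.asIdeal (hW.fromSpec.isOpenEmbedding.injective h1)
  have hz' : z ∈ AssSch.Ass (Coh.structureModule X) := by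
    rw [StructMod.mem_Ass_structureModule_iff hW z trivial, hz]
    exact hp
  have hf : IsField (X.presheaf.stalk z) := isField_of_length (by
    rw [← length_structureModule]; exact h.2 z hz')
  have hd : IsDomain (X.presheaf.stalk z) := hf.isDomain
  letI : Algebra Γ(X, ⊤) (X.presheaf.stalk z) := (X.presheaf.germ ⊤ z trivial).hom.toAlgebra
  haveI := hW.isLocalization_stalk ⟨z, trivial⟩
  have h0 : algebraMap Γ(X, ⊤) (X.presheaf.stalk z) a = 0 :=
    (ha.map (algebraMap Γ(X, ⊤) (X.presheaf.stalk z))).eq_zero
  obtain ⟨s, hs⟩ := (IsLocalization.map_eq_zero_iff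
    (hW.primeIdealOf ⟨z, trivial⟩).asIdeal.primeCompl (X.presheaf.stalk z) a).1 h0
  refine s.2 (hz.ge (hle ?_))
  rw [Submodule.mem_colon_singleton, Submodule.mem_bot, smul_eq_mul]
  exact hs

/-- An associated point of a reduced scheme has a field as local ring. -/
theorem isField_stalk_of_mem_Ass [IsReduced X] {x : X}
    (hx : x ∈ AssSch.Ass (Coh.structureModule X)) : IsField (X.presheaf.stalk x) := by
  rw [StructMod.mem_Ass_structureModule_iff_stalk] at hx
  have hp : (IsLocalRing.maximalIdeal (X.presheaf.stalk x)).IsPrime := hx.isPrime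
  obtain ⟨_, s, hs⟩ := hx
  rw [IsLocalRing.isField_iff_maximalIdeal_eq]
  have hs' : ∀ a, a ∈ IsLocalRing.maximalIdeal (X.presheaf.stalk x) ↔ a * s = 0 := by
    intro a
    rw [hs]
    constructor
    · rintro ⟨n, hn⟩
      rw [Submodule.mem_colon_singleton, Submodule.mem_bot, smul_eq_mul] at hn
      have h1 : IsNilpotent (a * s) := ⟨n + 1, by
        rw [mul_pow, pow_succ a, pow_succ s]
        calc a ^ n * a * (s ^ n * s) = (a ^ n * s) * (a * s ^ n) := by ring
          _ = 0 := by rw [hn, zero_mul]⟩
      exact h1.eq_zero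
    · intro h1
      refine Ideal.le_radical ?_
      rw [Submodule.mem_colon_singleton, Submodule.mem_bot, smul_eq_mul]
      exact h1
  have hsu : IsUnit s := by
    by_contra hn
    have h1 : s ∈ IsLocalRing.maximalIdeal (X.presheaf.stalk x) :=
      (IsLocalRing.mem_maximalIdeal s).2 hn
    have h2 : s * s = 0 := (hs' s).1 h1
    have h3 : s = 0 := by
      have : IsNilpotent s := ⟨2, by rw [pow_two, h2]⟩
      exact this.eq_zero
    have h4 : (1 : X.presheaf.stalk x) ∈ IsLocalRing.maximalIdeal (X.presheaf.stalk x) :=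
      (hs' 1).2 (by rw [h3, mul_zero])
    exact hp.ne_top ((Ideal.eq_top_iff_one _).2 h4)
  refine le_antisymm (fun a ha => ?_) bot_le
  have := (hs' a).1 ha
  rw [hsu.mul_left_eq_zero] at this
  exact this

theorem isReducedMod_structure_iff (W : Scheme.{u}) (T : Type u) [CommRing T] [IsNoetherianRing T]
    (e : W ≅ Spec (CommRingCat.of T)) (h : associatedPrimes T T ⊆ minimalPrimes T) :
    AssSch.IsReducedMod (Coh.structureModule W) ↔ _root_.IsReduced T := by
  haveI : IsLocallyNoetherian W := isLocallyNoetherian_of_isOpenImmersion e.hom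
  haveI : IsAffine W := IsAffine.of_isIso e.hom
  let e1 : T ≃+* Γ(W, ⊤) :=
    ((Scheme.ΓSpecIso (CommRingCat.of T)).symm ≪≫
      (Scheme.Γ.mapIso e.op)).commRingCatIsoToRingEquiv
  constructor
  · intro h1
    have h2 := isReduced_of_isReducedMod h1
    exact isReduced_of_injective e1 e1.injective
  · intro h1
    haveI : IsReduced (Spec (CommRingCat.of T)) := inferInstance
    haveI : IsReduced W := isReduced_of_isOpenImmersion e.hom
    refine ⟨S2513.noEmbedded_of_iso W T e h, fun x hx => ?_⟩
    rw [length_structureModule]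
    exact K107.LenStalk.length_field (isField_stalk_of_mem_Ass hx)

end K107.ModStk
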