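import Groth.Agent.S2546
import Groth.Agent.S2513
import Groth.Agent.FBase.K107.ModStk
import Groth.Agent.FBase.K107.FibNoeth

/-!
# Reduced modules under extension of the base field: the fibrewise criterion
-/

set_option autoImplicit false
universe u
open CategoryTheory CategoryTheory.Limits AlgebraicGeometry TensorProduct

namespace K107.ModBC

open Groth.Agent Groth.Agent.Fdesc Groth.Agent.Fdesc.AssFlat Groth.Agent.Fdesc.PullbackStalk

variable {k : Type u} [Field k] {X : Scheme.{u}} (f : X ⟶ Spec (CommRingCat.of k))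

/-- The residue field as algebra over the base field. -/
noncomputable abbrev resAlg (x : X) : Algebra k (X.residueField x) :=
  (Spec.preimage (X.fromSpecResidueField x ≫ f)).hom.toAlgebra

theorem specMap_resAlg (x : X) :
    Spec.map (CommRingCat.ofHom (@algebraMap k (X.residueField x) _ _ (resAlg f x))) =
      X.fromSpecResidueField x ≫ f := by
  change Spec.map (CommRingCat.ofHom (Spec.preimage (X.fromSpecResidueField x ≫ f)).hom) = _
  rw [CommRingCat.ofHom_hom, Spec.map_preimage]

/-- The fibre of `X_K → X` over `x` is the spectrum of `κ(x) ⊗ K`. -/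
noncomputable def fiberIso (K : Type u) [Field K] [Algebra k K] (x : X) :
    letI := resAlg f x
    (FBase.bcπ f K).fiber x ≅ Spec (CommRingCat.of (X.residueField x ⊗[k] K)) :=
  letI := resAlg f x
  let g := Spec.map (CommRingCat.ofHom (algebraMap k K))
  let e1 : (pullback.fst f g).fiber x ≅ pullback (X.fromSpecResidueField x) (pullback.fst f g) :=
    pullbackSymmetry _ _
  let e2 : pullback (X.fromSpecResidueField x) (pullback.fst f g) ≅
      pullback (X.fromSpecResidueField x ≫ f) g :=
    pullbackRightPullbackFstIso f g (X.fromSpecResidueField x)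
  let e3 : pullback (X.fromSpecResidueField x ≫ f) g ≅
      pullback (Spec.map (CommRingCat.ofHom (algebraMap k (X.residueField x)))) g :=
    pullback.congrHom (specMap_resAlg f x).symm rfl
  let e4 : pullback (Spec.map (CommRingCat.ofHom (algebraMap k (X.residueField x)))) g ≅
      Spec (CommRingCat.of (X.residueField x ⊗[k] K)) :=
    pullbackSpecIso k (X.residueField x) K
  e1 ≪≫ e2 ≪≫ e3 ≪≫ e4

variable (K : Type u) [Field K] [Algebra k K]

theorem isNoetherianRing_residue [IsLocallyNoetherian (FBase.bc f K)] (x : X) :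
    letI := resAlg f x
    IsNoetherianRing (X.residueField x ⊗[k] K) := by
  let _ := resAlg f x
  have h1 : IsLocallyNoetherian ((FBase.bcπ f K).fiber x) :=
    K107.FibNoeth.isLocallyNoetherian_fiber (FBase.bcπ f K) x
  have h2 : IsLocallyNoetherian (Spec (CommRingCat.of (X.residueField x ⊗[k] K))) :=
    isLocallyNoetherian_of_isOpenImmersion (fiberIso f K x).inv
  exact isLocallyNoetherian_Spec.mp h2

theorem isReducedMod_fiber_iff [IsLocallyNoetherian (FBase.bc f K)] (x : X) :
    letI := resAlg f x
    AssSch.IsReducedMod (Coh.structureModule ((FBase.bcπ f K).fiber x)) ↔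
      _root_.IsReduced (X.residueField x ⊗[k] K) := by
  let _ := resAlg f x
  have := isNoetherianRing_residue f K x
  exact K107.ModStk.isReducedMod_structure_iff _ _ (fiberIso f K x) S2512.result

instance flat_specMap : Flat (Spec.map (CommRingCat.ofHom (algebraMap k K))) := by
  rw [Flat.SpecMap_iff]
  change (algebraMap k K).Flat
  rw [RingHom.flat_algebraMap_iff]
  infer_instance

instance surjective_specMap : Surjective (Spec.map (CommRingCat.ofHom (algebraMap k K))) := by
  refine ⟨fun y => ⟨IsLocalRing.closedPoint K, ?_⟩⟩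
  have : Subsingleton (Spec (CommRingCat.of k)) := inferInstanceAs (Subsingleton (PrimeSpectrum k))
  exact Subsingleton.elim _ _

instance flat_bcπ : Flat (FBase.bcπ f K) :=
  (inferInstance : Flat (pullback.fst f (Spec.map (CommRingCat.ofHom (algebraMap k K)))))

instance surjective_bcπ : Surjective (FBase.bcπ f K) :=
  (inferInstance : Surjective (pullback.fst f (Spec.map (CommRingCat.ofHom (algebraMap k K)))))

/-- a finite extension keeps `X` locally Noetherian -/
theorem isLocallyNoetherian_bc_of_finite [IsLocallyNoetherian X] [FiniteDimensional k K] :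
    IsLocallyNoetherian (FBase.bc f K) := by
  have h1 : LocallyOfFiniteType (Spec.map (CommRingCat.ofHom (algebraMap k K))) := by
    rw [HasRingHomProperty.Spec_iff (P := @LocallyOfFiniteType)]
    exact RingHom.finiteType_algebraMap.2 inferInstance
  have h2 : LocallyOfFiniteType (FBase.bcπ f K) :=
    (inferInstance : LocallyOfFiniteType
      (pullback.fst f (Spec.map (CommRingCat.ofHom (algebraMap k K)))))
  exact LocallyOfFiniteType.isLocallyNoetherian (FBase.bcπ f K)

variable {K} {f}

/-- Claim A: `F_K` is reduced iff `F` is reduced and `κ(x) ⊗ K` is reduced for all associated points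
`x` of `F`. -/
theorem isReducedMod_bc_iff [IsLocallyNoetherian X] [IsLocallyNoetherian (FBase.bc f K)]
    (F : X.Modules) (hF : Coh.IsCoh F) :
    AssSch.IsReducedMod ((Scheme.Modules.pullback (FBase.bcπ f K)).obj F) ↔
      ∀ x ∈ AssSch.Ass F, (∀ x' ∈ AssSch.Ass F, x' ⤳ x → x' = x) ∧
        Module.length (X.presheaf.stalk x) (F.presheaf.stalk x) = 1 ∧
        (letI := resAlg f x; _root_.IsReduced (X.residueField x ⊗[k] K)) := by
  rw [← K107.ModStk.isReducedMod_tensor_struct_iff]
  rw [S2546.result (FBase.bcπ f K) F hF (Coh.structureModule _) (StructMod.isCoh_structureModule _)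
    (S2513.isFlatOver_structureModule _)]
  constructor
  · intro h x hx
    obtain ⟨z, hz⟩ := (FBase.bcπ f K).surjective x
    have h1 := h x ⟨hx, z, (S2545.mem_support_iff _ _).mpr (S2513.nontrivial_stalk z), hz⟩
    refine ⟨h1.1, h1.2.1, ?_⟩
    rw [← isReducedMod_fiber_iff f K x, ← K107.ModStk.isReducedMod_pullback_struct_iff
      ((FBase.bcπ f K).fiberι x)]
    exact h1.2.2
  · rintro h x ⟨hx, -⟩
    obtain ⟨h1, h2, h3⟩ := h x hx
    refine ⟨h1, h2, ?_⟩
    rw [K107.ModStk.isReducedMod_pullback_struct_iff, isReducedMod_fiber_iff f K x]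
    exact h3

/-- Associated points of `F_K` over `x`. -/
theorem mem_Ass_bc_iff [IsLocallyNoetherian X] [IsLocallyNoetherian (FBase.bc f K)]
    (F : X.Modules) (x : X) (w : (FBase.bcπ f K).fiber x) :
    (FBase.bcπ f K).fiberι x w ∈ AssSch.Ass ((Scheme.Modules.pullback (FBase.bcπ f K)).obj F) ↔
      x ∈ AssSch.Ass F ∧ w ∈ AssSch.Ass (Coh.structureModule ((FBase.bcπ f K).fiber x)) := by
  rw [← K107.ModStk.mem_Ass_iff_of_equiv (K107.ModStk.tensorStructEquiv (FBase.bcπ f K) F _),
    mem_Ass_tensor_iff _ _ _ (S2513.isFlatOver_structureModule _), ← mem_Ass_fiber_iff,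
    K107.ModStk.mem_Ass_iff_of_equiv (K107.ModStk.pullbackStructEquiv ((FBase.bcπ f K).fiberι x) w)]
  have h1 : (FBase.bcπ f K).base ((FBase.bcπ f K).fiberι x w) = x := by
    have : (FBase.bcπ f K).fiberι x w ∈ (FBase.bcπ f K) ⁻¹' {x} := by
      rw [← Scheme.Hom.range_fiberι]
      exact ⟨w, rfl⟩
    exact this
  rw [h1]

end K107.ModBC
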