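import Groth.Agent.FBase.K107.ModBC
import Groth.Agent.FBase.K107.FieldTens

/-!
# Geometrically reduced and geometrically integral modules
-/

set_option autoImplicit false
universe u
open CategoryTheory CategoryTheory.Limits AlgebraicGeometry TensorProduct

namespace K107.ModBC2

open Groth.Agent Groth.Agent.Fdesc Groth.Agent.Fdesc.AssFlat Groth.Agent.Fdesc.PullbackStalk
  K107.ModBC

variable {k : Type u} [Field k] {X : Scheme.{u}} [IsLocallyNoetherian X]
  (f : X ⟶ Spec (CommRingCat.of k)) (F : X.Modules) (hF : Coh.IsCoh F)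

include hF in
theorem isReducedMod_bc_of_purelyInseparable
    (h : ∀ (k' : Type u) [Field k'] [Algebra k k'] [FiniteDimensional k k']
      [IsPurelyInseparable k k'],
        AssSch.IsReducedMod ((Scheme.Modules.pullback (FBase.bcπ f k')).obj F))
    (K : Type u) [Field K] [Algebra k K] [IsLocallyNoetherian (FBase.bc f K)] :
    AssSch.IsReducedMod ((Scheme.Modules.pullback (FBase.bcπ f K)).obj F) := by
  rw [isReducedMod_bc_iff F hF]
  intro x hx
  have h0 : ∀ (k' : Type u) [Field k'] [Algebra k k'] [FiniteDimensional k k']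
      [IsPurelyInseparable k k'],
      (∀ x' ∈ AssSch.Ass F, x' ⤳ x → x' = x) ∧
        Module.length (X.presheaf.stalk x) (F.presheaf.stalk x) = 1 ∧
        (letI := resAlg f x; _root_.IsReduced (X.residueField x ⊗[k] k')) := by
    intro k' _ _ _ _
    have := isLocallyNoetherian_bc_of_finite (f := f) (K := k')
    exact (isReducedMod_bc_iff F hF).1 (h k') x hx
  refine ⟨(h0 k).1, (h0 k).2.1, ?_⟩
  let _ := resAlg f x
  exact K107.FieldTens.isReduced_tensor_of_forall_purelyInseparable (X.residueField x)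
    (fun k' _ _ _ _ => (h0 k').2.2) K

/-- A reduced Noetherian ring with at most one associated prime is a domain. -/
theorem isDomain_of_associatedPrimes {T : Type u} [CommRing T] [IsNoetherianRing T]
    [_root_.IsReduced T] [Nontrivial T]
    (h : (associatedPrimes T T).Subsingleton) : IsDomain T := by
  have h1 : (minimalPrimes T).Subsingleton := by
    refine h.anti ?_
    have h2 := Module.associatedPrimes.minimalPrimes_annihilator_subset_associatedPrimes T T
    have h3 : Module.annihilator T T = ⊥ := by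
      rw [Module.annihilator_eq_bot]
      infer_instance
    rw [h3] at h2
    exact h2
  obtain ⟨p, hp⟩ := (⊥ : Ideal T).nonempty_minimalPrimes bot_ne_top
  have h2 : sInf (minimalPrimes T) = nilradical T := Ideal.sInf_minimalPrimes
  have h3 : minimalPrimes T = {p} := h1.eq_singleton_of_mem hp
  rw [h3, sInf_singleton, nilradical_eq_zero] at h2
  have h4 : p.IsPrime := hp.1.1
  rw [h2] at h4
  exact @IsDomain.of_bot_isPrime _ _ h4

theorem exists_point {W : Scheme.{u}} [IsAffine W] (p : Ideal Γ(W, ⊤)) (hp : p.IsPrime) :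
    ∃ z : W, ((isAffineOpen_top W).primeIdealOf ⟨z, trivial⟩).asIdeal = p := by
  have hW := isAffineOpen_top W
  refine ⟨hW.fromSpec ⟨p, hp⟩, ?_⟩
  have h1 := hW.fromSpec_primeIdealOf ⟨hW.fromSpec ⟨p, hp⟩, trivial⟩
  exact congrArg PrimeSpectrum.asIdeal (hW.fromSpec.isOpenEmbedding.injective h1)

theorem exists_mem_Ass_of_iso (W : Scheme.{u}) (T : Type u) [CommRing T] [IsNoetherianRing T]
    [Nontrivial T] (e : W ≅ Spec (CommRingCat.of T)) :
    ∃ w : W, w ∈ AssSch.Ass (Coh.structureModule W) := by
  have hN : IsLocallyNoetherian W := isLocallyNoetherian_of_isOpenImmersion e.hom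
  have hA : IsAffine W := IsAffine.of_isIso e.hom
  have hW := isAffineOpen_top W
  have hR : IsNoetherianRing Γ(W, ⊤) := IsLocallyNoetherian.component_noetherian ⟨⊤, hW⟩
  let e1 : T ≃+* Γ(W, ⊤) :=
    ((Scheme.ΓSpecIso (CommRingCat.of T)).symm ≪≫
      (Scheme.Γ.mapIso e.op)).commRingCatIsoToRingEquiv
  have hnt : Nontrivial Γ(W, ⊤) := e1.symm.toEquiv.nontrivial
  obtain ⟨p, hp⟩ := associatedPrimes.nonempty Γ(W, ⊤) Γ(W, ⊤)
  obtain ⟨w, hw⟩ := exists_point p hp.isPrime
  exact ⟨w, (StructMod.mem_Ass_structureModule_iff hW w trivial).2 (by rw [hw]; exact hp)⟩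

/-- For `W ≅ Spec T` with `T` reduced Noetherian without embedded primes: `T` is a domain iff `O_W`
has exactly one associated point. -/
theorem isDomain_iff_of_iso (W : Scheme.{u}) (T : Type u) [CommRing T] [IsNoetherianRing T]
    [_root_.IsReduced T] [Nontrivial T]
    (e : W ≅ Spec (CommRingCat.of T)) (h : associatedPrimes T T ⊆ minimalPrimes T) :
    IsDomain T ↔ ∃ w, AssSch.Ass (Coh.structureModule W) = {w} := by
  have hN : IsLocallyNoetherian W := isLocallyNoetherian_of_isOpenImmersion e.hom
  have hA : IsAffine W := IsAffine.of_isIso e.hom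
  have hW := isAffineOpen_top W
  have hR : IsNoetherianRing Γ(W, ⊤) := IsLocallyNoetherian.component_noetherian ⟨⊤, hW⟩
  let e1 : T ≃+* Γ(W, ⊤) :=
    ((Scheme.ΓSpecIso (CommRingCat.of T)).symm ≪≫
      (Scheme.Γ.mapIso e.op)).commRingCatIsoToRingEquiv
  have h' := S2513.associatedPrimes_subset_of_ringEquiv e1.symm h
  have hred : _root_.IsReduced Γ(W, ⊤) := isReduced_of_injective e1.symm e1.symm.injective
  have hnt : Nontrivial Γ(W, ⊤) := e1.symm.toEquiv.nontrivial
  have key : ∀ z : W, z ∈ AssSch.Ass (Coh.structureModule W) ↔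
      ((isAffineOpen_top W).primeIdealOf ⟨z, trivial⟩).asIdeal ∈
        associatedPrimes Γ(W, ⊤) Γ(W, ⊤) := fun z =>
    StructMod.mem_Ass_structureModule_iff hW z trivial
  obtain ⟨p, hp⟩ := associatedPrimes.nonempty Γ(W, ⊤) Γ(W, ⊤)
  obtain ⟨w, hw⟩ := exists_point p hp.isPrime
  have hwA : w ∈ AssSch.Ass (Coh.structureModule W) := (key w).2 (by rw [hw]; exact hp)
  constructor
  · intro hT
    have hD : IsDomain Γ(W, ⊤) := e1.symm.toMulEquiv.isDomain _
    refine ⟨w, Set.Subsingleton.eq_singleton_of_mem ?_ hwA⟩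
    intro z hz z' hz'
    have h1 := h' ((key z).1 hz)
    have h2 := h' ((key z').1 hz')
    rw [IsDomain.minimalPrimes_eq_singleton_bot] at h1 h2
    have h3 : (isAffineOpen_top W).primeIdealOf ⟨z, trivial⟩ =
        (isAffineOpen_top W).primeIdealOf ⟨z', trivial⟩ :=
      PrimeSpectrum.ext (h1.trans h2.symm)
    have h4 := hW.fromSpec_primeIdealOf ⟨z, trivial⟩
    rw [h3, hW.fromSpec_primeIdealOf ⟨z', trivial⟩] at h4
    exact h4.symm
  · rintro ⟨w', hw'⟩
    have hD : IsDomain Γ(W, ⊤) := by
      refine isDomain_of_associatedPrimes ?_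
      intro q hq q' hq'
      obtain ⟨z, hz⟩ := exists_point q hq.isPrime
      obtain ⟨z', hz'⟩ := exists_point q' hq'.isPrime
      have h1 : z = w' := by
        have : z ∈ AssSch.Ass (Coh.structureModule W) := (key z).2 (by rw [hz]; exact hq)
        rwa [hw'] at this
      have h2 : z' = w' := by
        have : z' ∈ AssSch.Ass (Coh.structureModule W) := (key z').2 (by rw [hz']; exact hq')
        rwa [hw'] at this
      subst h1 h2
      exact hz.symm.trans hz'
    exact e1.toMulEquiv.isDomain _

include hF in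
/-- `F_K` is an integral module iff `F` is, with associated point `x`, and `κ(x) ⊗ K` is a domain. -/
theorem isIntegralMod_bc_iff (K : Type u) [Field K] [Algebra k K]
    [IsLocallyNoetherian (FBase.bc f K)] :
    (∃ x' : ↥(FBase.bc f K), AssSch.Ass ((Scheme.Modules.pullback (FBase.bcπ f K)).obj F) = {x'} ∧
      Module.length ↑((FBase.bc f K).presheaf.stalk x')
        ↑(((Scheme.Modules.pullback (FBase.bcπ f K)).obj F).presheaf.stalk x') = 1) ↔
    ∃ x : X, AssSch.Ass F = {x} ∧ Module.length (X.presheaf.stalk x) (F.presheaf.stalk x) = 1 ∧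
      (letI := resAlg f x; IsDomain (X.residueField x ⊗[k] K)) := by
  have hfib : ∀ (x : X) (w : (FBase.bcπ f K).fiber x),
      (FBase.bcπ f K) ((FBase.bcπ f K).fiberι x w) = x := by
    intro x w
    have : (FBase.bcπ f K).fiberι x w ∈ (FBase.bcπ f K) ⁻¹' {x} := by
      rw [← Scheme.Hom.range_fiberι]
      exact ⟨w, rfl⟩
    exact this
  constructor
  · rintro ⟨x', hx', hlen⟩
    have hred : AssSch.IsReducedMod ((Scheme.Modules.pullback (FBase.bcπ f K)).obj F) := by
      refine ⟨fun a ha b hb _ => ?_, fun a ha => ?_⟩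
      · rw [hx'] at ha hb
        exact ha.trans hb.symm
      · rw [hx'] at ha
        obtain rfl : a = x' := ha
        exact hlen
    rw [isReducedMod_bc_iff F hF] at hred
    -- nonemptiness of fibres
    have hpt : ∀ x ∈ AssSch.Ass F, ∀ w ∈ AssSch.Ass (Coh.structureModule ((FBase.bcπ f K).fiber x)),
        (FBase.bcπ f K).fiberι x w = x' := by
      intro x hx w hw
      have h1 := (mem_Ass_bc_iff F x w).2 ⟨hx, hw⟩
      rwa [hx'] at h1
    have hne : ∀ x ∈ AssSch.Ass F, x = (FBase.bcπ f K) x' := by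
      intro x hx
      let _ := resAlg f x
      have := isNoetherianRing_residue f K x
      obtain ⟨w, hw⟩ := exists_mem_Ass_of_iso _ _ (fiberIso f K x)
      rw [← hpt x hx w hw, hfib]
    have hx'A : x' ∈ AssSch.Ass ((Scheme.Modules.pullback (FBase.bcπ f K)).obj F) := by
      rw [hx']
      rfl
    have hmem : (FBase.bcπ f K) x' ∈ AssSch.Ass F ∧ (FBase.bcπ f K).asFiber x' ∈
        AssSch.Ass (Coh.structureModule ((FBase.bcπ f K).fiber ((FBase.bcπ f K) x'))) := by
      rw [← mem_Ass_bc_iff, Scheme.Hom.fiberι_asFiber]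
      exact hx'A
    refine ⟨(FBase.bcπ f K) x', ?_, (hred _ hmem.1).2.1, ?_⟩
    · ext y
      constructor
      · exact fun hy => hne y hy
      · rintro rfl
        exact hmem.1
    · let _ := resAlg f ((FBase.bcπ f K) x')
      have := isNoetherianRing_residue f K ((FBase.bcπ f K) x')
      have := (hred _ hmem.1).2.2
      refine (isDomain_iff_of_iso _ _ (fiberIso f K ((FBase.bcπ f K) x')) S2512.result).2
        ⟨(FBase.bcπ f K).asFiber x', ?_⟩
      ext w
      constructor
      · intro hw
        have h1 := hpt _ hmem.1 w hw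
        refine ((FBase.bcπ f K).fiberι ((FBase.bcπ f K) x')).isEmbedding.injective ?_
        rw [Scheme.Hom.fiberι_asFiber]
        exact h1
      · rintro rfl
        exact hmem.2
  · rintro ⟨x, hx, hlen, hD⟩
    let _ := resAlg f x
    have hN := isNoetherianRing_residue f K x
    have hxA : x ∈ AssSch.Ass F := by rw [hx]; rfl
    have hr : _root_.IsReduced (X.residueField x ⊗[k] K) := inferInstance
    obtain ⟨w, hw⟩ := (isDomain_iff_of_iso _ _ (fiberIso f K x) S2512.result).1 hD
    have hred : AssSch.IsReducedMod ((Scheme.Modules.pullback (FBase.bcπ f K)).obj F) := by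
      rw [isReducedMod_bc_iff F hF]
      intro y hy
      rw [hx] at hy
      obtain rfl : y = x := hy
      refine ⟨fun y' hy' _ => ?_, hlen, hr⟩
      rw [hx] at hy'
      exact hy'
    have hwA : (FBase.bcπ f K).fiberι x w ∈
        AssSch.Ass ((Scheme.Modules.pullback (FBase.bcπ f K)).obj F) := by
      rw [mem_Ass_bc_iff]
      refine ⟨hxA, ?_⟩
      rw [hw]
      rfl
    refine ⟨(FBase.bcπ f K).fiberι x w, ?_, hred.2 _ hwA⟩
    ext z
    constructor
    · intro hz
      have h1 : (FBase.bcπ f K) z ∈ AssSch.Ass F := by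
        rw [← Scheme.Hom.fiberι_asFiber (FBase.bcπ f K) z, mem_Ass_bc_iff] at hz
        exact hz.1
      rw [hx] at h1
      have h2 : z ∈ Set.range ((FBase.bcπ f K).fiberι x) := by
        rw [Scheme.Hom.range_fiberι]
        exact h1
      obtain ⟨w', rfl⟩ := h2
      rw [mem_Ass_bc_iff, hw] at hz
      rw [show w' = w from hz.2]
      rfl
    · rintro rfl
      exact hwA

end K107.ModBC2
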