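import Groth.Agent.FBase.K107.DimComp
import Mathlib.AlgebraicGeometry.PullbackCarrier
import Mathlib.AlgebraicGeometry.IdealSheaf.Subscheme

/-!
# Irreducible components of products over a field
-/

set_option autoImplicit false
universe u
open CategoryTheory CategoryTheory.Limits AlgebraicGeometry

namespace K107.ProdComp

variable {k : Type u} [Field k]

/-- the generic point of an irreducible closed set of a product, maximal inside
`p⁻¹(X') ∩ q⁻¹(Y')`, lies over the generic points. -/
theorem exists_generization {X Y : Scheme.{u}} (f : X ⟶ Spec (CommRingCat.of k))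
    (g : Y ⟶ Spec (CommRingCat.of k)) {X' : Set X} {Y' : Set Y} (hX' : IsClosed X')
    (hX'i : IsIrreducible X') (hY' : IsClosed Y') (hY'i : IsIrreducible Y')
    (w : ↥(pullback f g)) (hw1 : pullback.fst f g w ∈ X') (hw2 : pullback.snd f g w ∈ Y') :
    ∃ z : ↥(pullback f g), z ⤳ w ∧ IsGenericPoint (pullback.fst f g z) X' ∧
      IsGenericPoint (pullback.snd f g z) Y' := by
  let I := Scheme.IdealSheafData.vanishingIdeal (⟨X', hX'⟩ : TopologicalSpace.Closeds X)
  let J := Scheme.IdealSheafData.vanishingIdeal (⟨Y', hY'⟩ : TopologicalSpace.Closeds Y)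
  have hrI : Set.range I.subschemeι = X' := by
    rw [Scheme.IdealSheafData.range_subschemeι, Scheme.IdealSheafData.coe_support_vanishingIdeal]
    rfl
  have hrJ : Set.range J.subschemeι = Y' := by
    rw [Scheme.IdealSheafData.range_subschemeι, Scheme.IdealSheafData.coe_support_vanishingIdeal]
    rfl
  let m : pullback (I.subschemeι ≫ f) (J.subschemeι ≫ g) ⟶ pullback f g :=
    pullback.map _ _ _ _ I.subschemeι J.subschemeι (𝟙 _) (by simp) (by simp)
  have hm1 : m ≫ pullback.fst f g = pullback.fst _ _ ≫ I.subschemeι := pullback.lift_fst _ _ _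
  have hm2 : m ≫ pullback.snd f g = pullback.snd _ _ ≫ J.subschemeι := pullback.lift_snd _ _ _
  have hr : w ∈ Set.range m := by
    rw [Scheme.Pullback.range_map, hrI, hrJ]
    exact ⟨hw1, hw2⟩
  obtain ⟨v, rfl⟩ := hr
  obtain ⟨z, hz, hzv⟩ := Groth.Agent.Fdesc.GenTop.exists_genericPoints_specializes v
  have h1 := Groth.Agent.Fdesc.GenTop.map_mem_genericPoints
    (DimComp.generalizing_fst (I.subschemeι ≫ f) (J.subschemeι ≫ g)) hz
  have h2 := Groth.Agent.Fdesc.GenTop.map_mem_genericPoints
    (DimComp.generalizing_snd (I.subschemeι ≫ f) (J.subschemeι ≫ g)) hz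
  have key : ∀ {T S : Scheme.{u}} (i : T ⟶ S) [IsClosedImmersion i] (A : Set S)
      (hA : Set.range i = A) (hAi : IsIrreducible A) (t : T), t ∈ genericPoints T →
      IsGenericPoint (i t) A := by
    intro T S i _ A hA hAi t ht
    subst hA
    have hirr' : IrreducibleSpace (Set.range i) := Subtype.irreducibleSpace hAi
    have hirr : IrreducibleSpace T :=
      i.isClosedEmbedding.isEmbedding.toHomeomorph.irreducibleSpace_iff.2 hirr'
    have h4 : closure {t} = Set.univ := by
      rw [DimComp.eq_genericPoint ht]
      exact genericPoint_closure _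
    have h5 := i.isClosedEmbedding.closure_image_eq {t}
    rw [Set.image_singleton, h4, Set.image_univ] at h5
    exact h5
  refine ⟨m z, hzv.map m.continuous, ?_, ?_⟩
  · have := key I.subschemeι X' hrI hX'i _ h1
    rw [← Scheme.Hom.comp_apply, hm1]
    exact this
  · have := key J.subschemeι Y' hrJ hY'i _ h2
    rw [← Scheme.Hom.comp_apply, hm2]
    exact this

theorem eq_of_closure_eq {T : Scheme.{u}} {a b : T} (h : closure {a} = closure {b}) : a = b :=
  (inseparable_iff_closure_eq.2 h).eq

theorem mem_irreducibleComponents_iff {X Y : Scheme.{u}} (f : X ⟶ Spec (CommRingCat.of k))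
    (g : Y ⟶ Spec (CommRingCat.of k)) (W : Set ↥(pullback f g)) :
    W ∈ irreducibleComponents ↥(pullback f g) ↔
      ∃ X' ∈ irreducibleComponents ↥X, ∃ Y' ∈ irreducibleComponents ↥Y,
        Maximal (fun V : Set ↥(pullback f g) => IsIrreducible V ∧
          V ⊆ ⇑(pullback.fst f g) ⁻¹' X' ∩ ⇑(pullback.snd f g) ⁻¹' Y') W := by
  constructor
  · intro hW
    obtain ⟨z, hz, rfl⟩ := Groth.Agent.Fdesc.GenTop.exists_genericPoints_of_component hW
    have h1 := Groth.Agent.Fdesc.GenTop.map_mem_genericPoints (DimComp.generalizing_fst f g) hz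
    have h2 := Groth.Agent.Fdesc.GenTop.map_mem_genericPoints (DimComp.generalizing_snd f g) hz
    refine ⟨closure {pullback.fst f g z}, h1, closure {pullback.snd f g z}, h2, ?_⟩
    refine ⟨⟨hW.1, ?_⟩, fun V hV hle => hW.2 hV.1 hle⟩
    refine closure_minimal ?_ ((isClosed_closure.preimage (pullback.fst f g).continuous).inter
      (isClosed_closure.preimage (pullback.snd f g).continuous))
    rw [Set.singleton_subset_iff]
    exact ⟨subset_closure rfl, subset_closure rfl⟩
  · rintro ⟨X', hX', Y', hY', hW⟩
    have hcX := isClosed_of_mem_irreducibleComponents _ hX'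
    have hcY := isClosed_of_mem_irreducibleComponents _ hY'
    have hS : IsClosed (⇑(pullback.fst f g) ⁻¹' X' ∩ ⇑(pullback.snd f g) ⁻¹' Y') :=
      (hcX.preimage (pullback.fst f g).continuous).inter
        (hcY.preimage (pullback.snd f g).continuous)
    have hWc : IsClosed W := by
      have h1 : closure W ⊆ W := hW.2 ⟨hW.1.1.closure, closure_minimal hW.1.2 hS⟩ subset_closure
      exact closure_subset_iff_isClosed.1 h1
    have hw := hW.1.1.isGenericPoint_genericPoint hWc
    set w := hW.1.1.genericPoint with hwdef
    have hwW : closure {w} = W := hw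
    have hwm : w ∈ W := hwW ▸ subset_closure rfl
    -- maximality in terms of points
    have hmax : ∀ z : ↥(pullback f g), z ⤳ w → pullback.fst f g z ∈ X' →
        pullback.snd f g z ∈ Y' → z = w := by
      intro z hz h1 h2
      have h3 : closure {z} ⊆ W := by
        refine hW.2 ⟨isIrreducible_singleton.closure, closure_minimal ?_ hS⟩ ?_
        · rw [Set.singleton_subset_iff]; exact ⟨h1, h2⟩
        · rw [← hwW]
          exact hz.closure_subset
      refine eq_of_closure_eq (h3.trans hwW.ge |>.antisymm hz.closure_subset)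
    obtain ⟨z, hz, hz1, hz2⟩ := exists_generization f g hcX hX'.1 hcY hY'.1 w
      (hW.1.2 hwm).1 (hW.1.2 hwm).2
    have hzw := hmax z hz hz1.mem hz2.mem
    rw [hzw] at hz1 hz2
    rw [← hwW]
    change w ∈ genericPoints _
    rw [Groth.Agent.Fdesc.GenTop.mem_genericPoints_iff]
    intro t ht
    have h1 : pullback.fst f g w ∈ genericPoints X := by
      have : closure {pullback.fst f g w} = X' := hz1
      change closure {pullback.fst f g w} ∈ irreducibleComponents X
      rwa [this]
    have h2 : pullback.snd f g w ∈ genericPoints Y := by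
      have : closure {pullback.snd f g w} = Y' := hz2
      change closure {pullback.snd f g w} ∈ irreducibleComponents Y
      rwa [this]
    refine hmax t ht ?_ ?_
    · rw [Groth.Agent.Fdesc.GenTop.mem_genericPoints_iff.1 h1 _
        (ht.map (pullback.fst f g).continuous)]
      exact hz1.mem
    · rw [Groth.Agent.Fdesc.GenTop.mem_genericPoints_iff.1 h2 _
        (ht.map (pullback.snd f g).continuous)]
      exact hz2.mem

end K107.ProdComp
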