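import Groth.Agent.Fdesc.GeomRed3
import Mathlib.RingTheory.Spectrum.Prime.Homeomorph
import Mathlib.RingTheory.Localization.Submodule

/-!
# Essentially finitely generated algebras: making the reduction geometrically reduced after a finite
purely inseparable extension
-/

set_option autoImplicit false

open TensorProduct Algebra

namespace K107.PurInsep

universe u v w

theorem exists_isGeometricallyReduced_quotient_nilradical {k : Type u} [Field k] (K : Type v)
    [Field K] [Algebra k K] [Algebra.IsAlgebraic k K] [PerfectField K]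
    (A : Type w) [CommRing A] [Algebra k A] [Algebra.EssFiniteType k A] :
    ∃ (K' : Type v) (_ : Field K') (_ : Algebra k K') (_ : Algebra K' K),
      IsScalarTower k K' K ∧ FiniteDimensional k K' ∧
      Algebra.IsGeometricallyReduced K' ((K' ⊗[k] A) ⧸ nilradical (K' ⊗[k] A)) := by
  have hN : IsNoetherianRing (K ⊗[k] A) := Algebra.EssFiniteType.isNoetherianRing K _
  obtain ⟨s, hs⟩ := (isNoetherianRing_iff_ideal_fg _).mp hN (nilradical (K ⊗[k] A))
  obtain ⟨K', hK', hK's⟩ :=
    Groth.Agent.Fdesc.GeomRed.exists_finiteDimensional_forall_mem_range s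
  refine ⟨K', inferInstance, inferInstance, inferInstance, inferInstance, hK', ?_⟩
  exact Groth.Agent.Fdesc.GeomRed.isGeometricallyReduced_quotient_nilradical_of_span K' K A s hs hK's

/-- For a purely inseparable extension `k'` and a field `K` over `k`, the nilradical is the only prime
ideal of `k' ⊗ K`. -/
theorem eq_nilradical {k k' K : Type*} [Field k] [Field k'] [Field K] [Algebra k k'] [Algebra k K]
    [IsPurelyInseparable k k'] (m : Ideal (k' ⊗[k] K)) [m.IsPrime] :
    m = nilradical (k' ⊗[k] K) := by
  have h0 : Function.Injective (PrimeSpectrum.comap (algebraMap K (K ⊗[k] k'))) :=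
    (PrimeSpectrum.isHomeomorph_comap_of_isPurelyInseparable k k' K).injective
  have h1 : Subsingleton (PrimeSpectrum (K ⊗[k] k')) :=
    ⟨fun a b => h0 (Subsingleton.elim _ _)⟩
  have e : PrimeSpectrum (k' ⊗[k] K) ≃ PrimeSpectrum (K ⊗[k] k') :=
    (PrimeSpectrum.homeomorphOfRingEquiv
      (Algebra.TensorProduct.comm k k' K).toRingEquiv).toEquiv
  have h2 : Subsingleton (PrimeSpectrum (k' ⊗[k] K)) := e.subsingleton
  refine le_antisymm ?_ ?_
  · rw [nilradical_eq_sInf]
    refine le_sInf fun p hp => ?_
    have hp' : p.IsPrime := hp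
    have : (⟨m, inferInstance⟩ : PrimeSpectrum (k' ⊗[k] K)) = ⟨p, hp'⟩ := Subsingleton.elim _ _
    exact (congrArg PrimeSpectrum.asIdeal this).le
  · rw [nilradical_eq_sInf]
    exact sInf_le ‹m.IsPrime›

end K107.PurInsep
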